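import Groth.Agent.Lib.RegExt.AffineConst
import Groth.Agent.Lib.TorPts21.Split
import Groth.Agent.Lib.TorPts21.BaseChangeTorus
import Groth.Agent.Lib.DiagGL.Chars
import Groth.Agent.Lib.AbRigid.GrpTop
import Groth.Agent.Lib.PerfProd19.Basic
import Mathlib.Algebra.MvPolynomial.Nilpotent

/-!
# Maps from products with affine space into extensions of abelian varieties by tori
-/

set_option autoImplicit false
set_option linter.style.haveILetI false
set_option backward.isDefEq.respectTransparency false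

universe u

open CategoryTheory CategoryTheory.Limits MonoidalCategory CartesianMonoidalCategory AlgebraicGeometry
open scoped MonObj GrpObj

noncomputable section

namespace Groth.Agent.AVQuotH1

variable {k : Type u} [Field k]

/-- Morphisms out of a reduced scheme into a separated one agreeing on all geometric points are equal. -/
theorem hom_ext_geometric {Y G : Over (Spec (CommRingCat.of k))} [IsReduced Y.left] [IsSeparated G.hom] (f g : Y ⟶ G)
    (h : ∀ (Ω : Type u) [Field Ω] [IsAlgClosed Ω] (p : Spec (CommRingCat.of Ω) ⟶ Spec (CommRingCat.of k))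
      (y : (Over.map p).obj (𝟙_ (Over (Spec (CommRingCat.of Ω)))) ⟶ Y), y ≫ f = y ≫ g) : f = g := by
  ext1
  refine ext_of_fromSpecResidueField_eq _ _ G.hom Set.univ dense_univ (fun a _ => ?_)
    ((Over.w f).trans (Over.w g).symm)
  let Ω := AlgebraicClosure (Y.left.residueField a)
  let c : Spec (CommRingCat.of Ω) ⟶ Spec (Y.left.residueField a) :=
    Spec.map (CommRingCat.ofHom (algebraMap (Y.left.residueField a) Ω))
  let q : Spec (CommRingCat.of Ω) ⟶ Y.left := c ≫ Y.left.fromSpecResidueField a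
  let y : (Over.map (q ≫ Y.hom)).obj (𝟙_ (Over (Spec (CommRingCat.of Ω)))) ⟶ Y := Over.homMk q (by
    exact (Category.id_comp _).symm)
  have hy : q ≫ f.left = q ≫ g.left := congrArg CommaMorphism.left (h Ω (q ≫ Y.hom) y)
  haveI : IsReduced (Spec (Y.left.residueField a)) :=
    inferInstanceAs (IsReduced (Spec (CommRingCat.of (Y.left.residueField a))))
  haveI : IsDominant c := by
    haveI : Surjective c := ⟨fun z => ⟨IsLocalRing.closedPoint Ω,
      Subsingleton.elim (α := PrimeSpectrum (Y.left.residueField a)) _ _⟩⟩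
    infer_instance
  refine ext_of_isDominant_of_isSeparated G.hom (by rw [Category.assoc, Category.assoc, Over.w, Over.w]) c ?_
  simpa only [q, Category.assoc] using hy

variable {Ω : Type u} [Field Ω] (p : Spec (CommRingCat.of Ω) ⟶ Spec (CommRingCat.of k)) (σ : Type u)

/-- Affine space over `Ω` as a scheme over `k`. -/
abbrev affTest : Over (Spec (CommRingCat.of k)) := (Over.map p).obj (RegExt.affN Ω σ)

/-- Its origin. -/
abbrev affOrigin : (Over.map p).obj (𝟙_ (Over (Spec (CommRingCat.of Ω)))) ⟶ affTest p σ :=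
  (Over.map p).map (RegExt.origin Ω σ)

theorem fl_one (G : Over (Spec (CommRingCat.of k))) [GrpObj G] {T : Over (Spec (CommRingCat.of Ω))} :
    DiagGL.fl p G (1 : T ⟶ Red.bc p G) = 1 := by
  have h := DiagGL.fl_mul p G (1 : T ⟶ Red.bc p G) 1
  rw [_root_.mul_one] at h
  exact mul_eq_left.1 h.symm

theorem eq_one_of_proper [IsAlgClosed Ω] [Finite σ] (A : Over (Spec (CommRingCat.of k))) [GrpObj A] [IsProper A.hom]
    (f : affTest p σ ⟶ A) (h0 : affOrigin p σ ≫ f = 1) : f = 1 := by
  obtain ⟨g, rfl⟩ := DiagGL.fl_surjective p A f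
  haveI : IsProper (Red.bc p A).hom := MorphismProperty.pullback_snd _ _ ‹IsProper A.hom›
  have hnat : DiagGL.fl p A (RegExt.origin Ω σ ≫ g) = affOrigin p σ ≫ DiagGL.fl p A g :=
    (Over.mapPullbackAdj p).homEquiv_naturality_left_symm _ _
  have hg0 : RegExt.origin Ω σ ≫ g = 1 := DiagGL.fl_injective p A (by rw [hnat, h0, fl_one])
  rw [RegExt.const_of_affN_isAlgClosed σ (Red.bc p A) g, hg0, MonObj.comp_one, fl_one]

theorem eq_one_of_torus [IsAlgClosed Ω] (T : Over (Spec (CommRingCat.of k))) [GrpObj T] (hT : Red.IsTorus T)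
    (f : affTest p σ ⟶ T) (h0 : affOrigin p σ ≫ f = 1) : f = 1 := by
  obtain ⟨g, rfl⟩ := DiagGL.fl_surjective p T f
  obtain ⟨r, ⟨C⟩⟩ := TorPts21.exists_chars (TorPts21.isTorus_bc p hT)
  have hnat : DiagGL.fl p T (RegExt.origin Ω σ ≫ g) = affOrigin p σ ≫ DiagGL.fl p T g :=
    (Over.mapPullbackAdj p).homEquiv_naturality_left_symm _ _
  have hg0 : RegExt.origin Ω σ ≫ g = 1 := DiagGL.fl_injective p T (by rw [hnat, h0, fl_one])
  suffices g = 1 by rw [this, fl_one]
  refine C.inj fun a => ?_
  rw [C.one]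
  show C.ch g a = 1
  let e := Scheme.ΓSpecIso (CommRingCat.of (MvPolynomial σ Ω))
  have hu : IsUnit (e.hom.hom (C.ch g a)) :=
    ((Group.isUnit a).map (C.ch g)).map e.hom.hom
  obtain ⟨-, hdeg⟩ := MvPolynomial.isUnit_iff_totalDegree_of_isReduced.1 hu
  have hC := MvPolynomial.totalDegree_eq_zero_iff_eq_C.1 hdeg
  have hev : MvPolynomial.aeval (fun _ : σ => (0 : Ω)) (e.hom.hom (C.ch g a)) = 1 := by
    have h1 : (RegExt.origin Ω σ).left.appTop (C.ch g a) = 1 := by
      rw [← C.nat, hg0, C.one]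
    have h2 := congrArg (fun v => (Scheme.ΓSpecIso (CommRingCat.of Ω)).hom.hom v) h1
    simp only [map_one] at h2
    rw [← h2]
    exact (ConcreteCategory.congr_hom (Scheme.ΓSpecIso_naturality
      (CommRingCat.ofHom (MvPolynomial.aeval (fun _ : σ => (0 : Ω))).toRingHom)) (C.ch g a)).symm
  rw [hC, MvPolynomial.aeval_C] at hev
  have h3 : e.hom.hom (C.ch g a) = 1 := by
    rw [hC, show MvPolynomial.coeff 0 (e.hom.hom (C.ch g a)) = 1 from hev, MvPolynomial.C_1]
  exact (ConcreteCategory.bijective_of_isIso e.hom).1 (h3.trans (map_one _).symm)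

variable {p σ}

/-- A map from affine space to an extension of an abelian variety by a torus killing the origin is trivial. -/
theorem eq_one_of_ext [IsAlgClosed Ω] [Finite σ] {G G0 T A : Over (Spec (CommRingCat.of k))} [GrpObj G] [GrpObj G0]
    (e : G0 ⟶ G) [IsMonHom e] [IsOpenImmersion e.left] [GrpObj T] (i : T ⟶ G0) [IsMonHom i] (hT : Red.IsTorus T)
    [GrpObj A] [IsProper A.hom] (q : G0 ⟶ A) [IsMonHom q] (hker : AlgGrp.IsKernel i q) [Mono i]
    (f : affTest p σ ⟶ G) (h0 : affOrigin p σ ≫ f = 1) : f = 1 := by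
  haveI : Mono e := by
    haveI : Mono ((Over.forget _).map e) := inferInstanceAs (Mono e.left)
    exact (Over.forget _).mono_of_mono_map this
  have hcl : IsClosed (Set.range e.left) := AbRigid.isClosed_range_of_isOpen e e.left.isOpenEmbedding.isOpen_range
  haveI : PreconnectedSpace (affTest p σ).left := by
    haveI : IsIntegral (Spec (CommRingCat.of (MvPolynomial σ Ω))) := inferInstance
    exact inferInstanceAs (PreconnectedSpace ↥(Spec (CommRingCat.of (MvPolynomial σ Ω))))
  have hrange : Set.range f.left ⊆ Set.range e.left := by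
    rintro _ ⟨z, rfl⟩
    have hclopen : IsClopen (f.left ⁻¹' Set.range e.left) :=
      ⟨hcl.preimage f.left.continuous, e.left.isOpenEmbedding.isOpen_range.preimage f.left.continuous⟩
    have hne : (f.left ⁻¹' Set.range e.left).Nonempty := by
      refine ⟨(affOrigin p σ).left (IsLocalRing.closedPoint Ω), ?_⟩
      show f.left ((affOrigin p σ).left (IsLocalRing.closedPoint Ω)) ∈ Set.range e.left
      rw [← Scheme.Hom.comp_apply, ← Over.comp_left, h0, ← MonObj.one_comp e]
      exact ⟨(1 : (Over.map p).obj (𝟙_ (Over (Spec (CommRingCat.of Ω)))) ⟶ G0).left (IsLocalRing.closedPoint Ω),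
        (Scheme.Hom.comp_apply _ _ _).symm⟩
    exact (Set.eq_univ_iff_forall.1 (hclopen.eq_univ hne)) z
  let f0 : affTest p σ ⟶ G0 := Over.homMk (IsOpenImmersion.lift e.left f.left hrange) (by
    rw [← Over.w e, IsOpenImmersion.lift_fac_assoc, Over.w f])
  have hf : f0 ≫ e = f := Over.OverMorphism.ext (IsOpenImmersion.lift_fac _ _ _)
  have h0' : affOrigin p σ ≫ f0 = 1 := by rw [← cancel_mono e, Category.assoc, hf, h0, MonObj.one_comp]
  have hq : f0 ≫ q = 1 := eq_one_of_proper p σ A (f0 ≫ q) (by rw [reassoc_of% h0', MonObj.one_comp])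
  let t : affTest p σ ⟶ T := hker.lift f0 (toUnit _) (by rw [hq, Hom.one_def])
  have ht : t ≫ i = f0 := hker.lift_fst _ _ _
  have ht0 : t = 1 := eq_one_of_torus p σ T hT t (by rw [← cancel_mono i, Category.assoc, ht, h0', MonObj.one_comp])
  rw [← hf, ← ht, ht0, MonObj.one_comp, MonObj.one_comp]

/-- Affine space over `k`. -/
abbrev affK (k : Type u) [Field k] (n : ℕ) : Over (Spec (CommRingCat.of k)) :=
  Over.mk (Spec.map (CommRingCat.ofHom (algebraMap k (MvPolynomial (Fin n) k))))

/-- The origin of affine space over `k`. -/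
def zeroK (k : Type u) [Field k] (n : ℕ) : 𝟙_ (Over (Spec (CommRingCat.of k))) ⟶ affK k n :=
  Over.homMk (Spec.map (CommRingCat.ofHom (MvPolynomial.aeval (fun _ : Fin n => (0 : k))).toRingHom)) (by
    show Spec.map _ ≫ Spec.map _ = 𝟙 _
    rw [← Spec.map_comp, ← CommRingCat.ofHom_comp, ← Spec.map_id]
    congr 2
    ext r
    simp)

/-- Morphisms from a product with affine space into such an extension factor through the projection. -/
theorem eq_fst_comp [PerfectField k] {X : Over (Spec (CommRingCat.of k))} [IsReduced X.left]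
    [LocallyOfFiniteType X.hom] (n : ℕ) {G G0 T A : Over (Spec (CommRingCat.of k))} [GrpObj G] [IsSeparated G.hom]
    [GrpObj G0]
    (e : G0 ⟶ G) [IsMonHom e] [IsOpenImmersion e.left] [GrpObj T] (i : T ⟶ G0) [IsMonHom i] [Mono i]
    (hT : Red.IsTorus T) [GrpObj A] [IsProper A.hom] (q : G0 ⟶ A) [IsMonHom q] (hker : AlgGrp.IsKernel i q)
    (φ : X ⊗ affK k n ⟶ G) :
    φ = fst X (affK k n) ≫ lift (𝟙 X) (toUnit X ≫ zeroK k n) ≫ φ := by
  haveI : IsReduced (affK k n).left := inferInstanceAs (IsReduced (Spec (CommRingCat.of (MvPolynomial (Fin n) k))))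
  haveI : LocallyOfFiniteType (affK k n).hom :=
    (HasRingHomProperty.Spec_iff (P := @LocallyOfFiniteType)).2
      (RingHom.finiteType_algebraMap.2 (inferInstance : Algebra.FiniteType k (MvPolynomial (Fin n) k)))
  haveI : IsReduced (X ⊗ affK k n).left := PerfProd19.isReduced_tensorObj X (affK k n)
  refine hom_ext_geometric _ _ fun Ω _ _ p y => ?_
  let W : Over (Spec (CommRingCat.of k)) := (Over.map p).obj (𝟙_ (Over (Spec (CommRingCat.of Ω))))
  let θ : k →+* Ω := (Spec.preimage p).hom
  let σ : Type u := ULift.{u} (Fin n)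
  let P : Over (Spec (CommRingCat.of k)) := affTest p σ
  let m : MvPolynomial (Fin n) k →+* MvPolynomial σ Ω :=
    MvPolynomial.eval₂Hom (MvPolynomial.C.comp θ) fun j => MvPolynomial.X ⟨j⟩
  have hp : p = Spec.map (CommRingCat.ofHom θ) := (Spec.map_preimage p).symm
  let prK : P ⟶ affK k n := Over.homMk (Spec.map (CommRingCat.ofHom m)) (by
    show Spec.map _ ≫ Spec.map _ = Spec.map _ ≫ p
    rw [hp, ← Spec.map_comp, ← Spec.map_comp, ← CommRingCat.ofHom_comp, ← CommRingCat.ofHom_comp]
    congr 2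
    ext r
    simp [m])
  -- the coordinates of the point
  let v : MvPolynomial (Fin n) k →+* Ω := (Spec.preimage (y ≫ snd X (affK k n)).left).hom
  have hv : (y ≫ snd X (affK k n)).left = Spec.map (CommRingCat.ofHom v) := (Spec.map_preimage _).symm
  have hvC : ∀ r, v (algebraMap k _ r) = θ r := fun r => by
    have hw := Over.w (y ≫ snd X (affK k n))
    have h1 : CommRingCat.ofHom (algebraMap k (MvPolynomial (Fin n) k)) ≫ CommRingCat.ofHom v = CommRingCat.ofHom θ :=
      Spec.map_injective (by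
        rw [Spec.map_comp, ← hp]
        exact (hv ▸ hw).trans (Category.id_comp p))
    exact congr(CommRingCat.Hom.hom $h1 r)
  let pv : 𝟙_ (Over (Spec (CommRingCat.of Ω))) ⟶ RegExt.affN Ω σ := Over.homMk
    (Spec.map (CommRingCat.ofHom (MvPolynomial.aeval (fun j : σ => v (MvPolynomial.X j.down))).toRingHom)) (by
      show Spec.map _ ≫ Spec.map _ = 𝟙 _
      rw [← Spec.map_comp, ← CommRingCat.ofHom_comp, ← Spec.map_id]
      congr 2
      ext r
      simp)
  have hpv : (Over.map p).map pv ≫ prK = y ≫ snd X (affK k n) := by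
    apply Over.OverMorphism.ext
    rw [hv]
    show Spec.map _ ≫ Spec.map _ = Spec.map _
    rw [← Spec.map_comp, ← CommRingCat.ofHom_comp]
    congr 2
    refine MvPolynomial.ringHom_ext (fun r => ?_) (fun j => ?_)
    · rw [← MvPolynomial.algebraMap_eq, hvC]; simp [m]
    · simp [m]
  let toW : P ⟶ W := (Over.map p).map (toUnit _)
  have hz : affOrigin p σ ≫ prK = toUnit W ≫ zeroK k n := by
    apply Over.OverMorphism.ext
    show Spec.map _ ≫ Spec.map _ = (toUnit W).left ≫ Spec.map _
    rw [show (toUnit W).left = (𝟙 _ ≫ p) from rfl, Category.id_comp, hp, ← Spec.map_comp, ← Spec.map_comp,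
      ← CommRingCat.ofHom_comp, ← CommRingCat.ofHom_comp]
    congr 2
    refine MvPolynomial.ringHom_ext (fun r => ?_) (fun j => ?_) <;> simp [m]
  have hW : ∀ (s : 𝟙_ (Over (Spec (CommRingCat.of Ω))) ⟶ RegExt.affN Ω σ), (Over.map p).map s ≫ toW = 𝟙 W :=
    fun s => by
      show (Over.map p).map s ≫ (Over.map p).map (toUnit _) = _
      rw [← CategoryTheory.Functor.map_comp, toUnit_unique (s ≫ toUnit _) (𝟙 _), CategoryTheory.Functor.map_id]
  let x : W ⟶ X := y ≫ fst X (affK k n)
  let ψ : X ⊗ affK k n ⟶ G := φ * (fst X (affK k n) ≫ lift (𝟙 X) (toUnit X ≫ zeroK k n) ≫ φ)⁻¹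
  let F : P ⟶ X ⊗ affK k n := lift (toW ≫ x) prK
  have hF0 : affOrigin p σ ≫ F ≫ ψ = 1 := by
    have h1 : affOrigin p σ ≫ F = lift x (toUnit W ≫ zeroK k n) := by
      rw [comp_lift, reassoc_of% (hW (RegExt.origin Ω σ)), hz, Category.id_comp]
    rw [← Category.assoc, h1, MonObj.comp_mul, GrpObj.comp_inv, lift_fst_assoc, ← Category.assoc x, comp_lift,
      Category.comp_id, ← Category.assoc x, toUnit_unique (x ≫ toUnit X) (toUnit W), mul_inv_cancel]
  have hFv : (Over.map p).map pv ≫ F = y := by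
    refine CartesianMonoidalCategory.hom_ext _ _ ?_ ?_
    · rw [Category.assoc, lift_fst, reassoc_of% (hW pv), Category.id_comp]
    · rw [Category.assoc, lift_snd, hpv]
  have h := congrArg (fun g => (Over.map p).map pv ≫ g) (eq_one_of_ext e i hT q hker (F ≫ ψ) hF0)
  simp only [reassoc_of% hFv, MonObj.comp_one, ψ, MonObj.comp_mul, GrpObj.comp_inv] at h
  exact mul_inv_eq_one.1 h

end Groth.Agent.AVQuotH1
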