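import Groth.Prelude.Def_EndRing
import Groth.Agent.Lib.QuotField20.Normal
import Groth.Agent.Lib.FrobPull22.Exists
import Groth.Agent.Lib.AbRigid.Image
import Groth.Agent.Lib.AbRigid.Isogeny
import Groth.Agent.Lib.AbRigid.Hom
import Groth.Agent.S3030
import Mathlib.AlgebraicGeometry.Sites.Fpqc
import Mathlib.AlgebraicGeometry.Group.Abelian

/-!
# Quotients of abelian varieties and their Frobenius endomorphisms
-/

universe u

set_option autoImplicit false

open CategoryTheory CategoryTheory.Limits MonoidalCategory CartesianMonoidalCategory MonObj AlgebraicGeometry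
open scoped GrpObj

namespace Groth.Agent.AVQuotH1

variable {k : Type u} [Field k]

/-- An abelian variety, bundled. -/
structure AV (k : Type u) [Field k] where
  X : Over (Spec (CommRingCat.of k))
  [grp : GrpObj X]
  [comm : IsCommMonObj X]
  [proper : IsProper X.hom]
  [gi : GeometricallyIntegral X.hom]

attribute [instance] AV.grp AV.comm AV.proper AV.gi

theorem effectiveEpi_left {X Z : Over (Spec (CommRingCat.of k))} (q : X ⟶ Z)
    [Flat q.left] [Surjective q.left] [QuasiCompact q.left] : Epi q := by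
  haveI : Epi q.left := inferInstance
  exact (Over.forget _).epi_of_epi_map (show Epi ((Over.forget _).map q) from ‹Epi q.left›)

theorem quasiCompact_left {X Z : Over (Spec (CommRingCat.of k))} (q : X ⟶ Z) [IsProper X.hom]
    [IsSeparated Z.hom] : IsProper q.left := by
  haveI : IsProper (q.left ≫ Z.hom) := by rw [Over.w]; infer_instance
  exact .of_comp q.left Z.hom

theorem epi_of_surjective {X Z : Over (Spec (CommRingCat.of k))} [GrpObj X] [GrpObj Z] [IsProper X.hom]
    [IsProper Z.hom] [GeometricallyIntegral Z.hom] (q : X ⟶ Z) [IsMonHom q] [Surjective q.left] : Epi q := by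
  haveI : AlgebraicGeometry.IsIntegral Z.left := GeometricallyIntegral.isIntegral_of_subsingleton Z.hom
  haveI : Flat q.left := AbRigid.flat_of_surjective X Z q
  haveI := quasiCompact_left q
  exact effectiveEpi_left q

/-- The quotient of an abelian variety by a closed subgroup. -/
theorem exists_quotient (X : AV k) {H : Over (Spec (CommRingCat.of k))} [GrpObj H] (i : H ⟶ X.X) [IsMonHom i]
    [IsClosedImmersion i.left] :
    ∃ (Q : AV k) (p : X.X ⟶ Q.X), IsMonHom p ∧ Surjective p.left ∧ AlgGrp.IsKernel i p := by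
  haveI : LocallyOfFiniteType (i.left ≫ X.X.hom) := inferInstance
  haveI : LocallyOfFiniteType H.hom := by rw [← Over.w i]; infer_instance
  haveI : Flat H.hom := QuotField20.flat_hom H
  haveI : Flat X.X.hom := QuotField20.flat_hom X.X
  haveI : Mono i := Over.mono_of_mono_left _
  obtain ⟨Q, _, p, hm, hfl, hsurj, hlfp, hk, hsep, -, -⟩ :=
    Groth.Agent.S3030.result k H X.X i (fun T g n => ⟨n, by
      letI : CommGroup (T ⟶ X.X) := Hom.commGroup
      rw [mul_comm g, mul_inv_cancel_right]⟩)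
  haveI := hm; haveI := hfl; haveI := hsurj; haveI := hlfp; haveI := hsep
  haveI : LocallyOfFiniteType Q.hom := by
    haveI : LocallyOfFiniteType (p.left ≫ Q.hom) := by rw [Over.w p]; infer_instance
    exact AlgSpDescent.locallyOfFiniteType_of_fppf_comp p.left Q.hom ‹_› ‹_› ‹_› ‹_›
  obtain ⟨Z, _, j, q, hj, hq, hjc, hZp, hZi, -, -, -, hqj⟩ := AbRigid.exists_image X.X Q p
  haveI := hjc
  haveI := quasiCompact_left p
  haveI : IsIso j := by
    let s := EffectiveEpi.desc p.left q.left (fun {T} a b hab => by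
      rw [← cancel_mono j.left, Category.assoc, Category.assoc, ← Over.comp_left, hqj]
      exact hab)
    have hs : p.left ≫ s = q.left := EffectiveEpi.fac p.left q.left _
    have h1 : s ≫ j.left = 𝟙 _ := by
      rw [← cancel_epi p.left, reassoc_of% hs, ← Over.comp_left, hqj, Category.comp_id]
    have h2 : j.left ≫ s = 𝟙 _ := by
      rw [← cancel_mono j.left, Category.assoc, h1, Category.comp_id, Category.id_comp]
    haveI : IsIso ((Over.forget _).map j) := ⟨s, h2, h1⟩
    exact isIso_of_reflects_iso j (Over.forget _)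
  haveI : IsIso j.left := inferInstanceAs (IsIso ((Over.forget _).map j))
  haveI : IsProper Q.hom := by
    have e : Q.hom = inv j.left ≫ Z.hom := by rw [← Over.w j, IsIso.inv_hom_id_assoc]
    rw [e]
    infer_instance
  haveI : GeometricallyIntegral Q.hom := by
    have e : Q.hom = inv j.left ≫ Z.hom := by rw [← Over.w j, IsIso.inv_hom_id_assoc]
    exact MorphismProperty.of_isPullback (P := @GeometricallyIntegral)
      (IsPullback.of_horiz_isIso ⟨by rw [Category.comp_id, e]⟩ :
        IsPullback (inv j.left) Q.hom Z.hom (𝟙 _)) hZi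
  haveI := isCommMonObj_of_isProper_of_geometricallyIntegral Q
  exact ⟨⟨Q⟩, p, hm, hsurj, hk⟩

/-- The image of a homomorphism of an abelian variety. -/
theorem exists_image (X : AV k) {G : Over (Spec (CommRingCat.of k))} [GrpObj G] [IsSeparated G.hom]
    [LocallyOfFiniteType G.hom] (f : X.X ⟶ G) [IsMonHom f] :
    ∃ (Q : AV k) (q : X.X ⟶ Q.X) (j : Q.X ⟶ G),
      IsMonHom q ∧ IsMonHom j ∧ Surjective q.left ∧ Mono j ∧ q ≫ j = f := by
  obtain ⟨Z, _, j, q, hj, hq, hjc, hZp, hZi, hqs, -, -, hqj⟩ := AbRigid.exists_image X.X G f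
  haveI := hjc
  haveI := hZp
  haveI := hZi
  haveI := isCommMonObj_of_isProper_of_geometricallyIntegral Z
  exact ⟨⟨Z⟩, q, j, hq, hj, hqs, Over.mono_of_mono_left _, hqj⟩

theorem geometricallyIntegral_id (L : Type u) [Field L] :
    GeometricallyIntegral (𝟙 (Spec (CommRingCat.of L))) := by
  refine ⟨fun M _ x W p₁ p₂ hW => ?_⟩
  haveI : IsIso p₂ := hW.isIso_snd_of_isIso
  haveI : Nonempty W := ⟨(inv p₂) (IsLocalRing.closedPoint M)⟩
  exact isIntegral_of_isOpenImmersion p₂

/-- A finite family of homomorphisms as one homomorphism into an abelian variety. -/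
theorem exists_prod (A : AV k) {X : Over (Spec (CommRingCat.of k))} [GrpObj X] :
    ∀ (n : ℕ) (ψ : Fin n → (X ⟶ A.X)) (_ : ∀ i, IsMonHom (ψ i)),
      ∃ (P : AV k) (Φ : X ⟶ P.X) (pr : Fin n → (P.X ⟶ A.X)) (inj : Fin n → (A.X ⟶ P.X)),
        IsMonHom Φ ∧ (∀ i, IsMonHom (pr i)) ∧ (∀ i, IsMonHom (inj i)) ∧ (∀ i, Φ ≫ pr i = ψ i) ∧
          (∀ i j, inj i ≫ pr j = if i = j then 𝟙 A.X else 1) ∧
          ∀ (T : Over (Spec (CommRingCat.of k))) (x y : T ⟶ P.X), (∀ i, x ≫ pr i = y ≫ pr i) → x = y := by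
  intro n
  induction n with
  | zero =>
    intro ψ _
    haveI : IsProper (𝟙_ (Over (Spec (CommRingCat.of k)))).hom := inferInstanceAs (IsProper (𝟙 _))
    haveI : GeometricallyIntegral (𝟙_ (Over (Spec (CommRingCat.of k)))).hom := geometricallyIntegral_id k
    exact ⟨⟨𝟙_ _⟩, toUnit X, fun i => i.elim0, fun i => i.elim0, inferInstanceAs (IsMonHom (toUnit X)),
      fun i => i.elim0, fun i => i.elim0, fun i => i.elim0, fun i => i.elim0, fun T x y _ => toUnit_unique x y⟩
  | succ n ih =>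
    intro ψ hψ
    obtain ⟨P, Φ, pr, inj, hΦ, hpr, hinj, hfac, hdelta, hext⟩ :=
      ih (fun i => ψ i.succ) (fun i => hψ i.succ)
    haveI := hψ 0
    haveI : IsProper (A.X ⊗ P.X).hom := by
      show IsProper (pullback.fst A.X.hom P.X.hom ≫ A.X.hom)
      infer_instance
    haveI : GeometricallyIntegral (A.X ⊗ P.X).hom := AbRigid.geometricallyIntegral_tensorObj A.X P.X
    refine ⟨⟨A.X ⊗ P.X⟩, lift (ψ 0) Φ, Fin.cases (fst A.X P.X) (fun i => snd A.X P.X ≫ pr i),
      Fin.cases (lift (𝟙 A.X) 1) (fun i => lift 1 (inj i)), inferInstanceAs (IsMonHom (lift (ψ 0) Φ)),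
      ?_, ?_, ?_, ?_, ?_⟩
    · intro i
      refine Fin.cases ?_ (fun i => ?_) i
      · exact inferInstanceAs (IsMonHom (fst A.X P.X))
      · haveI := hpr i
        exact inferInstanceAs (IsMonHom (snd A.X P.X ≫ pr i))
    · intro i
      refine Fin.cases ?_ (fun i => ?_) i
      · show IsMonHom (lift (𝟙 A.X) (1 : A.X ⟶ P.X)); rw [Hom.one_def]; infer_instance
      · haveI := hinj i
        show IsMonHom (lift (1 : A.X ⟶ A.X) (inj i)); rw [Hom.one_def]; infer_instance
    · intro i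
      refine Fin.cases ?_ (fun i => ?_) i
      · simp
      · simp [hfac]
    · intro i j
      refine Fin.cases ?_ (fun i => ?_) i <;> refine Fin.cases ?_ (fun j => ?_) j
      · simp
      · haveI := hpr j
        simp [MonObj.one_comp, (Fin.succ_ne_zero j).symm]
      · simp [Fin.succ_ne_zero i]
      · haveI := hpr j
        simp [hdelta, Fin.succ_inj]
    · intro T x y h
      refine CartesianMonoidalCategory.hom_ext _ _ (by simpa using h 0) (hext T _ _ fun i => ?_)
      simpa [Category.assoc] using h i.succ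

section Frobenius

variable {Q X : AV k}

theorem frob_comm [Finite k] (p : X.X ⟶ Q.X) (πX : X.X ⟶ X.X) (hXb : πX.left.base = 𝟙 _)
    (hXle : ∀ U : X.X.left.Opens, U ≤ πX.left ⁻¹ᵁ U)
    (hXapp : ∀ (U : X.X.left.Opens) (s : Γ(X.X.left, U)), (πX.left.appLE U U (hXle U)).hom s = s ^ Nat.card k)
    (πQ : Q.X ⟶ Q.X) (hQb : πQ.left.base = 𝟙 _) (hQle : ∀ U : Q.X.left.Opens, U ≤ πQ.left ⁻¹ᵁ U)
    (hQapp : ∀ (U : Q.X.left.Opens) (s : Γ(Q.X.left, U)), (πQ.left.appLE U U (hQle U)).hom s = s ^ Nat.card k) :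
    πX ≫ p = p ≫ πQ := by
  apply Over.OverMorphism.ext
  rw [Over.comp_left, Over.comp_left]
  refine Scheme.Hom.ext (by rw [Scheme.Hom.comp_base, Scheme.Hom.comp_base, hXb, hQb, Category.id_comp,
    Category.comp_id]) fun U => ?_
  have e1 := Scheme.Hom.appLE_comp_appLE πX.left p.left U (p.left ⁻¹ᵁ U) (p.left ⁻¹ᵁ U) le_rfl (hXle _)
  have e2 := Scheme.Hom.appLE_comp_appLE p.left πQ.left U U (p.left ⁻¹ᵁ U) (hQle U) le_rfl
  have hV : (p.left ≫ πQ.left) ⁻¹ᵁ U = p.left ⁻¹ᵁ U := by
    ext z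
    show (p.left ≫ πQ.left).base z ∈ U ↔ p.left.base z ∈ U
    rw [Scheme.Hom.comp_base, hQb, Category.comp_id]
  have key : (πX.left ≫ p.left).appLE U (p.left ⁻¹ᵁ U) (hXle _) =
      (p.left ≫ πQ.left).appLE U (p.left ⁻¹ᵁ U) hV.ge := by
    rw [← e1, ← e2]
    ext s
    change (πX.left.appLE _ _ _).hom ((p.left.appLE U _ le_rfl).hom s) =
      (p.left.appLE U _ _).hom ((πQ.left.appLE U U _).hom s)
    rw [hXapp, hQapp, map_pow]
  have hres := congrArg (fun a => a ≫ X.X.left.presheaf.map (homOfLE hV.le).op) key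
  simp only [Scheme.Hom.appLE_map] at hres
  rw [Scheme.Hom.app_eq_appLE, Scheme.Hom.app_eq_appLE, Scheme.Hom.appLE_map]
  exact hres

/-- Intertwined endomorphisms have intertwined polynomial values. -/
theorem eval₂_comm (p : EndAV.Hom X.X Q.X) (a : EndAV.End X.X) (b : EndAV.End Q.X)
    (h : a ≫ p = p ≫ b) (P : Polynomial ℤ) :
    ((Polynomial.eval₂ (Int.castRingHom (EndAV.End X.X)) a P : EndAV.End X.X) : EndAV.Hom X.X X.X) ≫ p =
      p ≫ ((Polynomial.eval₂ (Int.castRingHom (EndAV.End Q.X)) b P : EndAV.End Q.X) : EndAV.Hom Q.X Q.X) := by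
  induction P using Polynomial.induction_on' with
  | add f g hf hg =>
    simp only [Polynomial.eval₂_add]
    exact (Preadditive.add_comp _ _ _ _ _ _).trans
      ((congrArg₂ (· + ·) hf hg).trans (Preadditive.comp_add _ _ _ _ _ _).symm)
  | monomial n c =>
    have hpow : ((a ^ n : EndAV.End X.X) : EndAV.Hom X.X X.X) ≫ p = p ≫ ((b ^ n : EndAV.End Q.X) : EndAV.Hom Q.X Q.X) := by
      induction n with
      | zero => exact (Category.id_comp p).trans (Category.comp_id p).symm
      | succ n ih =>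
        rw [pow_succ', pow_succ']
        show (((a ^ n : EndAV.End X.X) : EndAV.Hom X.X X.X) ≫ a) ≫ p = p ≫ ((b ^ n : EndAV.End Q.X) : EndAV.Hom Q.X Q.X) ≫ b
        rw [Category.assoc, h, ← Category.assoc, ih, Category.assoc]
    simp only [Polynomial.eval₂_monomial, eq_intCast, ← zsmul_eq_mul]
    exact (Preadditive.zsmul_comp _ _ _).trans ((congrArg (c • ·) hpow).trans (Preadditive.comp_zsmul _ _ _).symm)

theorem exists_frob_of_surjective [Finite k] (p : X.X ⟶ Q.X) [IsMonHom p] [Surjective p.left] (P : Polynomial ℤ)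
    (πX : X.X ⟶ X.X) [IsMonHom πX] (hXb : πX.left.base = 𝟙 _) (hXle : ∀ U : X.X.left.Opens, U ≤ πX.left ⁻¹ᵁ U)
    (hXapp : ∀ (U : X.X.left.Opens) (s : Γ(X.X.left, U)), (πX.left.appLE U U (hXle U)).hom s = s ^ Nat.card k)
    (hPX : Polynomial.eval₂ (Int.castRingHom (EndAV.End X.X)) (EndAV.End.of πX) P = 0) :
    ∃ (πQ : Q.X ⟶ Q.X) (_ : IsMonHom πQ) (_ : πQ.left.base = 𝟙 _) (hQle : ∀ U : Q.X.left.Opens, U ≤ πQ.left ⁻¹ᵁ U)
      (_ : ∀ (U : Q.X.left.Opens) (s : Γ(Q.X.left, U)), (πQ.left.appLE U U (hQle U)).hom s = s ^ Nat.card k),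
      Polynomial.eval₂ (Int.castRingHom (EndAV.End Q.X)) (EndAV.End.of πQ) P = 0 := by
  obtain ⟨πQ, hm, hQb, hQle, hQapp⟩ := FrobPull22.exists_frobenius k Q.X
  refine ⟨πQ, hm, hQb, hQle, hQapp, ?_⟩
  haveI := epi_of_surjective p
  have h := eval₂_comm (EndAV.Hom.of p) (EndAV.End.of πX) (EndAV.End.of πQ)
    (EndAV.Hom.ext (frob_comm p πX hXb hXle hXapp πQ hQb hQle hQapp)) P
  rw [hPX] at h
  apply EndAV.End.ext
  rw [← cancel_epi p]
  have h' := congrArg EndAV.Hom.toHom h
  simp only [EndAV.Hom.toHom_comp, EndAV.Hom.toHom_of] at h'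
  refine h'.symm.trans ?_
  show (1 : X.X ⟶ X.X) ≫ p = p ≫ (1 : Q.X ⟶ Q.X)
  rw [MonObj.one_comp, MonObj.comp_one]

end Frobenius

end Groth.Agent.AVQuotH1
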