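import Groth.Agent.Lib.AVQuotH1.Reduc
import Groth.Agent.Lib.AVQuotH1.Basic
import Groth.Agent.Lib.AbRigid.Image
import Groth.Agent.Lib.AbRigid.FibreTranslate
import Groth.Agent.Lib.BorelFix21.Stabilizer
import Groth.Agent.Lib.BorelFix21.BaseChange
import Groth.Agent.Lib.GrpNeutral20.Smooth
import Groth.Agent.Lib.UnipBC21.AlgClosure
import Groth.Agent.Lib.TateTors22.Basic
import Groth.Agent.S7782

/-!
# A closed subgroup of an abelian variety contains an abelian variety absorbing a multiple of it
-/

set_option autoImplicit false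
set_option linter.style.haveILetI false
set_option backward.isDefEq.respectTransparency false

universe u

open CategoryTheory CategoryTheory.Limits MonoidalCategory CartesianMonoidalCategory AlgebraicGeometry
open scoped MonObj GrpObj

noncomputable section

namespace Groth.Agent.AVQuotH1

variable {k : Type u} [Field k]

theorem finite_of_open_finite [IsAlgClosed k] (F : Over (Spec (CommRingCat.of k))) [GrpObj F]
    [LocallyOfFiniteType F.hom] [CompactSpace F.left] (U : F.left.Opens)
    (hU : η[F].left (IsLocalRing.closedPoint k) ∈ U) (hfin : (U : Set F.left).Finite) : Finite F.left := by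
  haveI : JacobsonSpace F.left := LocallyOfFiniteType.jacobsonSpace F.hom
  haveI : Finite ↥(U : Set F.left) := hfin.to_subtype
  haveI : JacobsonSpace ↥(U : Set F.left) := JacobsonSpace.of_isOpenEmbedding U.2.isOpenEmbedding_subtypeVal
  have he : IsOpen ({η[F].left (IsLocalRing.closedPoint k)} : Set F.left) := by
    have h := U.2.isOpenEmbedding_subtypeVal.isOpenMap _ (isOpen_discrete ({⟨_, hU⟩} : Set ↥(U : Set F.left)))
    rwa [Set.image_singleton] at h
  have hop : ∀ y ∈ closedPoints F.left, IsOpen ({y} : Set F.left) := fun y hy => by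
    let p : 𝟙_ (Over (Spec (CommRingCat.of k))) ⟶ F := Over.homMk (pointOfClosedPoint F.hom y hy) (by simp)
    have hp : p.left (AbRigid.pt₀ k) = y := by simp [p, AbRigid.pt₀]
    have h := (AbRigid.ltrHomeo p).isOpenMap _ he
    rwa [Set.image_singleton, AbRigid.ltrHomeo_unit, hp] at h
  have hall : ∀ z : F.left, z ∈ closedPoints F.left := fun z => by
    by_contra hz
    obtain ⟨y, hy, hyc⟩ := nonempty_inter_closedPoints (Z := (closedPoints F.left)ᶜ) ⟨z, hz⟩
      (IsClosed.isLocallyClosed (isOpen_compl_iff.1 (by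
        rw [compl_compl, ← Set.biUnion_of_singleton (closedPoints F.left)]
        exact isOpen_biUnion hop)))
    exact hy hyc
  haveI : DiscreteTopology F.left := discreteTopology_iff_isOpen_singleton.2 fun z => hop z (hall z)
  exact finite_of_compact_of_discrete

variable {X G : Over (Spec (CommRingCat.of k))} [GrpObj X] [IsProper X.hom] [GeometricallyIntegral X.hom] [GrpObj G]
  (i : G ⟶ X) [IsMonHom i] [IsClosedImmersion i.left]

include i in
theorem isCommMonObj_of_subgroup : IsCommMonObj G := by
  haveI := isCommMonObj_of_isProper_of_geometricallyIntegral X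
  haveI : Mono i := Over.mono_of_mono_left i
  constructor
  rw [← cancel_mono i, Category.assoc, IsMonHom.mul_hom, ← BraidedCategory.braiding_naturality_assoc,
    IsCommMonObj.mul_comm]

include i in
theorem isMonHom_pow_id_subgroup (n : ℕ) : IsMonHom (𝟙 G ^ n) := by
  haveI := isCommMonObj_of_subgroup i
  letI : CommMonoid (G ⊗ G ⟶ G) := Hom.commMonoid
  refine ⟨?_, ?_⟩
  · rw [MonObj.comp_pow, Category.comp_id, MonObj.one_eq_one, one_pow]
  · rw [MonObj.comp_pow, Category.comp_id, ← lift_fst_comp_snd_comp, ← Hom.mul_def, MonObj.comp_pow,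
      MonObj.comp_pow, Category.comp_id, Category.comp_id, ← mul_pow]
    congr 1
    rw [Hom.mul_def, lift_fst_snd, Category.id_comp]

include i in
/-- Over an algebraically closed field a multiple of a closed subgroup of an abelian variety lands in an abelian
variety contained in it. -/
theorem exists_power [IsAlgClosed k] :
    ∃ (M : ℕ) (B : Over (Spec (CommRingCat.of k))) (_ : GrpObj B) (x : B ⟶ G) (y : G ⟶ B),
      0 < M ∧ IsMonHom x ∧ IsClosedImmersion x.left ∧ IsProper B.hom ∧ GeometricallyIntegral B.hom ∧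
        y ≫ x = 𝟙 G ^ M := by
  haveI := isCommMonObj_of_subgroup i
  haveI : IsProper G.hom := by rw [← Over.w i]; infer_instance
  obtain ⟨H, _, r, _, _, _, _, _⟩ := BorelFix21.exists_reduced_subgroup G
  haveI : IsProper H.hom := by rw [← Over.w r]; infer_instance
  haveI : Smooth ((⊤ : H.left.Opens).ι ≫ H.hom) := inferInstance
  obtain ⟨hopen, B, _, j, _, _, hrange, _, _⟩ :=
    GrpNeutral20.exists_openSubgroup H (⊤ : H.left.Opens) (fun _ => trivial)
  haveI : Mono j := Over.mono_of_mono_left j
  have hcl : IsClosed (Set.range j.left) := AbRigid.isClosed_range_of_isOpen j j.left.isOpenEmbedding.isOpen_range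
  haveI : IsClosedImmersion j.left := IsClosedImmersion.of_isPreimmersion j.left hcl
  haveI : IsProper B.hom := by rw [← Over.w j]; infer_instance
  haveI : Subsingleton ↥(𝟙_ (Over (Spec (CommRingCat.of k)))).left :=
    inferInstanceAs (Subsingleton (PrimeSpectrum k))
  have hns : SGA3x.neutralSet H = connectedComponentIn Set.univ (η[H].left (IsLocalRing.closedPoint k)) := by
    have hpre : ∀ p : ↥(𝟙_ (Over (Spec (CommRingCat.of k)))).left,
        H.hom.base ⁻¹' {(𝟙_ (Over (Spec (CommRingCat.of k)))).hom.base p} = Set.univ :=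
      fun p => Set.eq_univ_of_forall fun z => Subsingleton.elim (α := PrimeSpectrum k) _ _
    refine Set.Subset.antisymm (Set.iUnion_subset fun p => ?_) (fun z hz => ?_)
    · rw [hpre p, Subsingleton.elim p (IsLocalRing.closedPoint k)]
    · refine Set.mem_iUnion.2 ⟨IsLocalRing.closedPoint k, ?_⟩
      rw [hpre]; exact hz
  have hconn : _root_.IsConnected (Set.range j.left) := by
    rw [hrange, hns, connectedComponentIn_univ]; exact isConnected_connectedComponent
  haveI : ConnectedSpace B.left := by
    haveI : Nonempty B.left := ⟨η[B].left (IsLocalRing.closedPoint k)⟩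
    haveI : PreconnectedSpace B.left :=
      ⟨j.left.isOpenEmbedding.isInducing.isPreconnected_image.1 (by rw [Set.image_univ]; exact hconn.2)⟩
    exact ⟨inferInstance⟩
  haveI : GeometricallyReduced B.hom := AbRigid.geometricallyReduced_of_smooth B.hom
  haveI : GeometricallyIntegral B.hom := AbRigid.geometricallyIntegral_of_connected B
  haveI := isCommMonObj_of_isProper_of_geometricallyIntegral B
  haveI := isCommMonObj_of_isProper_of_geometricallyIntegral X
  let x : B ⟶ G := j ≫ r
  haveI : IsClosedImmersion x.left := inferInstanceAs (IsClosedImmersion (j.left ≫ r.left))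
  obtain ⟨V, hVo, hV⟩ := r.left.isClosedEmbedding.isInducing.isOpen_iff.1 hopen
  haveI : IsClosedImmersion (x ≫ i).left := inferInstanceAs (IsClosedImmersion (x.left ≫ i.left))
  obtain ⟨n, ψ, hn, _, hψ⟩ := exists_retraction (x ≫ i)
  let f : G ⟶ B := i ≫ ψ
  have hxf : x ≫ f = 𝟙 B ^ n := by rw [← hψ]; simp [x, f]
  haveI := isClosedImmersion_unit B
  let F := Isogeny14.kerOver f
  letI := Isogeny14.kerGrp f
  haveI := Isogeny14.isMonHom_kerIncl f
  haveI : IsCommMonObj F := Isogeny14.isCommMonObj_ker f
  haveI : IsClosedImmersion (Isogeny14.kerIncl f).left :=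
    inferInstanceAs (IsClosedImmersion (pullback.fst f.left η[B].left))
  haveI : IsProper F.hom := by rw [← Over.w (Isogeny14.kerIncl f)]; infer_instance
  haveI : CompactSpace F.left := QuasiCompact.compactSpace_of_compactSpace F.hom
  have hfinB : IsFinite (𝟙 B ^ n).left := (CubeField.isFinite_surjective_pow (A := B) CubeField.finH1 (n := n) hn).1
  haveI : Finite F.left := by
    refine finite_of_open_finite F ⟨(Isogeny14.kerIncl f).left ⁻¹' V, hVo.preimage (Isogeny14.kerIncl f).left.continuous⟩ ?_ ?_
    · show (Isogeny14.kerIncl f).left (η[F].left (IsLocalRing.closedPoint k)) ∈ V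
      rw [← Scheme.Hom.comp_apply, ← Over.comp_left, IsMonHom.one_hom (f := Isogeny14.kerIncl f),
        ← IsMonHom.one_hom (f := r), Over.comp_left, Scheme.Hom.comp_apply]
      show η[H].left (IsLocalRing.closedPoint k) ∈ r.left ⁻¹' V
      rw [hV, hns, connectedComponentIn_univ]
      exact mem_connectedComponent
    · haveI := hfinB
      refine Set.Finite.of_finite_image ?_ (Isogeny14.kerIncl f).left.isClosedEmbedding.injective.injOn
      refine Set.Finite.subset (((𝟙 B ^ n).left.finite_preimage_singleton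
        (η[B].left (IsLocalRing.closedPoint k))).image x.left) ?_
      rintro _ ⟨z, hz, rfl⟩
      obtain ⟨h, hh⟩ := r.left.surjective ((Isogeny14.kerIncl f).left z)
      have hhV : h ∈ r.left ⁻¹' V := by
        show r.left h ∈ V
        rw [hh]; exact hz
      rw [hV, ← hrange] at hhV
      obtain ⟨b, rfl⟩ := hhV
      refine ⟨b, ?_, hh⟩
      show (𝟙 B ^ n).left b = η[B].left (IsLocalRing.closedPoint k)
      rw [← hxf, Over.comp_left, Scheme.Hom.comp_apply, show x.left b = (Isogeny14.kerIncl f).left z from hh,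
        ← Scheme.Hom.comp_apply, ← Over.comp_left, Isogeny14.kerIncl_comp, Hom.one_def, Over.comp_left,
        Scheme.Hom.comp_apply]
      exact congrArg η[B].left (Subsingleton.elim (α := PrimeSpectrum k) _ _)
  haveI : LocallyQuasiFinite F.hom :=
    LocallyQuasiFinite.of_finite_preimage_singleton F.hom fun _ => Set.toFinite _
  haveI : IsFinite F.hom := (IsFinite.iff_isProper_and_locallyQuasiFinite F.hom).2 ⟨inferInstance, inferInstance⟩
  haveI : LocallyOfFinitePresentation F.hom := inferInstance
  let N := Scheme.Hom.finrank F.hom (IsLocalRing.closedPoint k)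
  have hN : 0 < N := by
    have h := Scheme.Hom.one_le_finrank_map F.hom (η[F].left (IsLocalRing.closedPoint k))
    rw [Subsingleton.elim (α := PrimeSpectrum k) (F.hom (η[F].left (IsLocalRing.closedPoint k)))
      (IsLocalRing.closedPoint k)] at h
    exact h
  have hF : 𝟙 F ^ N = 1 :=
    S7782.result F N (fun s => by rw [Subsingleton.elim (α := PrimeSpectrum k) s (IsLocalRing.closedPoint k)]) _ (𝟙 F)
  letI : CommGroup (G ⟶ G) := Hom.commGroup
  let e : G ⟶ G := 𝟙 G ^ n * (f ≫ x)⁻¹
  have hef : e ≫ f = 1 := by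
    simp only [e, MonObj.mul_comp, GrpObj.inv_comp, Category.assoc, hxf, MonObj.comp_pow, Category.comp_id,
      Isogeny14.hom_pow_comp, Category.id_comp, mul_inv_cancel]
  have heN : e ^ N = 1 := by
    rw [← Isogeny14.kerLift_incl f e hef, ← Isogeny14.hom_pow_comp]
    have h : Isogeny14.kerLift f e hef ^ N = Isogeny14.kerLift f e hef ≫ (𝟙 F ^ N) := by
      rw [MonObj.comp_pow, Category.comp_id]
    rw [h, hF, MonObj.comp_one, MonObj.one_comp]
  refine ⟨n * N, B, inferInstance, x, f ^ N, Nat.mul_pos hn hN, inferInstance, inferInstance, inferInstance,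
    inferInstance, ?_⟩
  simp only [e, mul_pow, inv_pow, mul_inv_eq_one] at heN
  rw [Isogeny14.hom_pow_comp, pow_mul, heN]

/-- Lifting along a monomorphism from a scheme-theoretically dominant covering. -/
theorem exists_lift_of_dominant {A B C D : Over (Spec (CommRingCat.of k))} (j : B ⟶ C) [IsClosedImmersion j.left]
    (r : D ⟶ A) [IsSchemeTheoreticallyDominant r.left] [QuasiCompact r.left] (g : A ⟶ C) (s : D ⟶ B)
    (h : s ≫ j = r ≫ g) : ∃ t : A ⟶ B, t ≫ j = g := by
  have hker : j.left.ker ≤ g.left.ker := by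
    calc j.left.ker ≤ (s.left ≫ j.left).ker := Scheme.Hom.le_ker_comp _ _
      _ = (r.left ≫ g.left).ker := by rw [← Over.comp_left, h, Over.comp_left]
      _ = g.left.ker := by rw [Scheme.Hom.ker_comp, r.left.ker_eq_bot, Scheme.IdealSheafData.map_bot]
  refine ⟨Over.homMk (IsClosedImmersion.lift j.left g.left hker) ?_, ?_⟩
  · show _ ≫ B.hom = _
    rw [← Over.w j, IsClosedImmersion.lift_fac_assoc, Over.w]
  · ext1; exact IsClosedImmersion.lift_fac _ _ _

include i in
/-- A closed subgroup of an abelian variety contains an abelian variety absorbing a multiple of it. -/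
theorem exists_abelian_power :
    ∃ (M : ℕ) (Z : Over (Spec (CommRingCat.of k))) (_ : GrpObj Z) (z : Z ⟶ G) (q : G ⟶ Z),
      0 < M ∧ IsMonHom z ∧ IsMonHom q ∧ IsClosedImmersion z.left ∧ IsProper Z.hom ∧ GeometricallyIntegral Z.hom ∧
        Surjective q.left ∧ q ≫ z = 𝟙 G ^ M := by
  haveI : IsProper G.hom := by rw [← Over.w i]; infer_instance
  haveI := isCommMonObj_of_subgroup i
  let K := AlgebraicClosure k
  let p : Spec (CommRingCat.of K) ⟶ Spec (CommRingCat.of k) := Spec.map (CommRingCat.ofHom (algebraMap k K))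
  let F := Over.pullback p
  letI : GrpObj (F.obj G) := Functor.grpObjObj
  letI : GrpObj (F.obj X) := Functor.grpObjObj
  haveI : IsProper (F.obj X).hom := BorelFix21.isProper_bc p X
  haveI : GeometricallyIntegral (F.obj X).hom := inferInstanceAs (GeometricallyIntegral (pullback.snd X.hom p))
  haveI : IsClosedImmersion (F.map i).left := BorelFix21.isClosedImmersion_bc p i
  obtain ⟨M, B, _, x, y, hM, _, _, _, _, hyx⟩ := exists_power (F.map i)
  haveI := isMonHom_pow_id_subgroup i M
  let g : G ⟶ G := 𝟙 G ^ M
  haveI : IsProper g.left := by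
    haveI : IsProper (g.left ≫ G.hom) := by rw [Over.w]; infer_instance
    exact .of_comp _ G.hom
  let Z : Over (Spec (CommRingCat.of k)) := Over.mk (g.left.imageι ≫ G.hom)
  let z : Z ⟶ G := Over.homMk g.left.imageι rfl
  let q : G ⟶ Z := Over.homMk g.left.toImage (by simp [Z])
  have hqz : q ≫ z = g := by ext1; exact g.left.toImage_imageι
  haveI : IsClosedImmersion z.left := inferInstanceAs (IsClosedImmersion g.left.imageι)
  haveI : Mono z := Over.mono_of_mono_left z
  haveI hqd : IsSchemeTheoreticallyDominant q.left := AbRigid.isSchemeTheoreticallyDominant_toImage g.left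
  haveI hqc : QuasiCompact q.left := inferInstanceAs (QuasiCompact g.left.toImage)
  haveI : UniversallyClosed g.left.toImage := inferInstance
  haveI : IsDominant g.left.toImage := inferInstance
  haveI : Surjective q.left := Surjective.of_universallyClosed_of_isDominant g.left.toImage
  haveI : IsProper Z.hom := by rw [← Over.w z]; infer_instance
  haveI hqq : IsSchemeTheoreticallyDominant (q ⊗ₘ q).left ∧ QuasiCompact (q ⊗ₘ q).left := by
    rw [MonoidalCategory.tensorHom_def, Over.comp_left]
    haveI : IsSchemeTheoreticallyDominant ((Over.forget _).map q) := hqd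
    haveI : QuasiCompact ((Over.forget _).map q) := hqc
    haveI : Flat ((Over.forget _).map (fst Z G)) := AbRigid.flat_fst_left Z G
    haveI : Flat ((Over.forget _).map (snd Z Z)) := AbRigid.flat_snd_left Z Z
    haveI : IsSchemeTheoreticallyDominant (q ▷ G).left :=
      IsSchemeTheoreticallyDominant.of_isPullback ((AbRigid.isPullback_whiskerRight q G).map (Over.forget _))
    haveI : IsSchemeTheoreticallyDominant (Z ◁ q).left :=
      IsSchemeTheoreticallyDominant.of_isPullback ((AbRigid.isPullback_whiskerLeft q Z).map (Over.forget _))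
    haveI : QuasiCompact (q ▷ G).left :=
      MorphismProperty.of_isPullback ((AbRigid.isPullback_whiskerRight q G).map (Over.forget _)) hqc
    haveI : QuasiCompact (Z ◁ q).left :=
      MorphismProperty.of_isPullback ((AbRigid.isPullback_whiskerLeft q Z).map (Over.forget _)) hqc
    exact ⟨inferInstance, inferInstance⟩
  haveI := hqq.1
  haveI := hqq.2
  obtain ⟨m, hm⟩ := exists_lift_of_dominant z (q ⊗ₘ q) ((z ⊗ₘ z) ≫ μ[G]) (μ[G] ≫ q) (by
    rw [Category.assoc, hqz, MonoidalCategory.tensorHom_comp_tensorHom_assoc, hqz, IsMonHom.mul_hom])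
  obtain ⟨v, hv⟩ := exists_lift_of_dominant z q (z ≫ ι[G]) (ι[G] ≫ q) (by
    rw [Category.assoc, hqz, ← Category.assoc, hqz, GrpObj.inv_hom])
  have he : (η[G] ≫ q) ≫ z = η[G] := by rw [Category.assoc, hqz, IsMonHom.one_hom]
  letI : GrpObj Z := AbRigid.grpObjOfMono z (η[G] ≫ q) he m hm v hv
  haveI : IsMonHom z := ⟨he, hm⟩
  haveI : IsMonHom q := ⟨rfl, by
    rw [← cancel_mono z, Category.assoc, hqz, Category.assoc, show μ[Z] ≫ z = (z ⊗ₘ z) ≫ μ[G] from hm,
      MonoidalCategory.tensorHom_comp_tensorHom_assoc, hqz, IsMonHom.mul_hom]⟩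
  -- over the algebraic closure the image is the abelian variety `B`
  haveI : IsClosedImmersion (F.map z).left := BorelFix21.isClosedImmersion_bc p z
  haveI : Mono (F.map z) := Over.mono_of_mono_left _
  haveI : Mono x := Over.mono_of_mono_left x
  haveI : Flat (pullback.fst Z.hom p) := MorphismProperty.pullback_fst _ _ inferInstance
  haveI : IsSchemeTheoreticallyDominant (F.map q).left :=
    IsSchemeTheoreticallyDominant.of_isPullback (BorelFix21.isPullback_bc_map p q)
  haveI : QuasiCompact (F.map q).left := MorphismProperty.of_isPullback (BorelFix21.isPullback_bc_map p q) hqc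
  have hgK : F.map g = 𝟙 (F.obj G) ^ M := by
    have hpow : ∀ m : ℕ, F.map (𝟙 G ^ m) = 𝟙 (F.obj G) ^ m := fun m => by
      induction m with
      | zero => simp
      | succ m ih => rw [pow_succ, pow_succ, Functor.map_mul, ih, F.map_id]
    exact hpow M
  obtain ⟨t, ht⟩ := exists_lift_of_dominant x (F.map q) (F.map z) y (by rw [hyx, ← hgK, ← F.map_comp, hqz])
  haveI : AlgebraicGeometry.IsIntegral B.left := GeometricallyIntegral.isIntegral_of_subsingleton B.hom
  haveI : IsCommMonObj B := isCommMonObj_of_isProper_of_geometricallyIntegral B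
  obtain ⟨hfB, hsB⟩ := CubeField.isFinite_surjective_pow (A := B) CubeField.finH1 (n := M) hM
  haveI := hfB
  haveI := hsB
  haveI : IsSchemeTheoreticallyDominant (𝟙 B ^ M).left := .of_isDominant _
  obtain ⟨s, hs⟩ := exists_lift_of_dominant (F.map z) (𝟙 B ^ M) x (x ≫ F.map q) (by
    rw [Category.assoc, ← F.map_comp, hqz, hgK, MonObj.comp_pow, Category.comp_id, Isogeny14.hom_pow_comp,
      Category.id_comp])
  let ee : F.obj Z ≅ B :=
    { hom := t
      inv := s
      hom_inv_id := by rw [← cancel_mono (F.map z), Category.assoc, hs, ht, Category.id_comp]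
      inv_hom_id := by rw [← cancel_mono x, Category.assoc, ht, hs, Category.id_comp] }
  let el : (F.obj Z).left ≅ B.left := (Over.forget _).mapIso ee
  haveI : IsReduced (pullback Z.hom p) := isReduced_of_isOpenImmersion (Y := B.left) el.hom
  haveI : GeometricallyReduced Z.hom := UnipBC21.geometricallyReduced_of_algClosure Z.hom
  haveI : ConnectedSpace Z.left := by
    haveI : Surjective ((s.left ≫ pullback.fst Z.hom p)) := by
      haveI : IsIso s.left := inferInstanceAs (IsIso el.inv)
      haveI : Surjective (pullback.fst Z.hom p) := MorphismProperty.pullback_fst _ _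
        ⟨fun a => ⟨IsLocalRing.closedPoint K, Subsingleton.elim (α := PrimeSpectrum k) _ _⟩⟩
      infer_instance
    exact (s.left ≫ pullback.fst Z.hom p).surjective.connectedSpace (s.left ≫ pullback.fst Z.hom p).continuous
  exact ⟨M, Z, inferInstance, z, q, hM, inferInstance, inferInstance, inferInstance, inferInstance,
    AbRigid.geometricallyIntegral_of_connected Z, inferInstance, hqz⟩

/-- A surjective homomorphism of abelian varieties has a section up to multiplication. -/
theorem exists_quasiSection {A I : Over (Spec (CommRingCat.of k))} [GrpObj A] [IsProper A.hom]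
    [GeometricallyIntegral A.hom] [GrpObj I] [IsProper I.hom] [GeometricallyIntegral I.hom]
    (q : A ⟶ I) [IsMonHom q] [Surjective q.left] :
    ∃ (m : ℕ) (s : I ⟶ A), 0 < m ∧ IsMonHom s ∧ s ≫ q = 𝟙 I ^ m := by
  haveI := isCommMonObj_of_isProper_of_geometricallyIntegral A
  haveI := isCommMonObj_of_isProper_of_geometricallyIntegral I
  letI := Isogeny14.kerGrp q
  haveI := Isogeny14.isMonHom_kerIncl q
  haveI := isClosedImmersion_unit I
  let ι₀ : Isogeny14.kerOver q ⟶ A := Isogeny14.kerIncl q
  haveI : IsClosedImmersion ι₀.left := inferInstanceAs (IsClosedImmersion (pullback.fst q.left η[I].left))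
  haveI : IsMonHom ι₀ := inferInstanceAs (IsMonHom (Isogeny14.kerIncl q))
  obtain ⟨M, Z, _, z, r, hM, _, _, _, _, _, _, hrz⟩ := exists_abelian_power ι₀
  haveI := isCommMonObj_of_isProper_of_geometricallyIntegral Z
  haveI : IsClosedImmersion (z ≫ ι₀).left := inferInstanceAs (IsClosedImmersion (z.left ≫ ι₀.left))
  obtain ⟨n, ψ, hn, _, hψ⟩ := exists_retraction (z ≫ ι₀)
  letI : CommGroup (A ⟶ A) := Hom.commGroup
  let e : A ⟶ A := 𝟙 A ^ n * (ψ ≫ z ≫ ι₀)⁻¹
  haveI : IsMonHom e := AbRigid.isMonHom_of_one A A e (by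
    simp only [e, MonObj.comp_mul, GrpObj.comp_inv, MonObj.comp_pow, Category.comp_id, MonObj.one_eq_one, ← Category.assoc,
      MonObj.one_comp, one_pow, inv_one, _root_.mul_one])
  have hze : (z ≫ ι₀) ≫ e = 1 := by
    simp only [e, MonObj.comp_mul, GrpObj.comp_inv, MonObj.comp_pow, Category.comp_id]
    rw [show (z ≫ ι₀) ≫ ψ ≫ z ≫ ι₀ = ((z ≫ ι₀) ≫ ψ) ≫ z ≫ ι₀ by simp only [Category.assoc], hψ,
      Isogeny14.hom_pow_comp, Category.id_comp, mul_inv_cancel]
  have hge : ι₀ ≫ e ^ M = 1 := by
    rw [MonObj.comp_pow, ← Isogeny14.hom_pow_comp, ← Category.id_comp ι₀, ← Isogeny14.hom_pow_comp, ← hrz]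
    simp only [Category.assoc] at hze ⊢
    rw [hze, MonObj.comp_one]
  haveI : IsMonHom (e ^ M) := AbRigid.isMonHom_of_one A A _ (by
    rw [MonObj.comp_pow, IsMonHom.one_hom, MonObj.one_eq_one, one_pow])
  haveI : AlgebraicGeometry.IsIntegral I.left := GeometricallyIntegral.isIntegral_of_subsingleton I.hom
  haveI : Flat q.left := AbRigid.flat_of_surjective A I q
  haveI := quasiCompact_left q
  haveI : IsLocallyNoetherian I.left := LocallyOfFiniteType.isLocallyNoetherian I.hom
  have hker : ∀ {T : Scheme.{u}} (a b : T ⟶ A.left), a ≫ q.left = b ≫ q.left →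
      a ≫ (e ^ M).left = b ≫ (e ^ M).left := fun {T} a b hab => by
    let T' : Over (Spec (CommRingCat.of k)) := Over.mk (a ≫ A.hom)
    let a' : T' ⟶ A := Over.homMk a rfl
    let b' : T' ⟶ A := Over.homMk b (by
      show b ≫ A.hom = a ≫ A.hom
      rw [← Over.w q, ← Category.assoc, ← hab, Category.assoc])
    have h1 : (a'⁻¹ * b') ≫ q = 1 := by
      rw [MonObj.mul_comp, GrpObj.inv_comp, show a' ≫ q = b' ≫ q from Over.OverMorphism.ext hab, inv_mul_cancel]
    have h2 : (a'⁻¹ * b') ≫ e ^ M = 1 := by
      rw [← Isogeny14.kerLift_incl q _ h1, Category.assoc]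
      show _ ≫ ι₀ ≫ e ^ M = 1
      rw [hge, MonObj.comp_one]
    rw [MonObj.mul_comp, GrpObj.inv_comp, inv_mul_eq_one] at h2
    exact congrArg CommaMorphism.left h2
  have hd := EffectiveEpi.fac q.left (e ^ M).left hker
  let s : I ⟶ A := Over.homMk (EffectiveEpi.desc q.left (e ^ M).left hker) (by
    rw [← cancel_epi q.left, reassoc_of% hd, Over.w, Over.w])
  have hs : q ≫ s = e ^ M := Over.OverMorphism.ext hd
  haveI : IsMonHom s := AbRigid.isMonHom_of_one I A s (by
    rw [← IsMonHom.one_hom (f := q), Category.assoc, hs, IsMonHom.one_hom])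
  refine ⟨n * M, s, Nat.mul_pos hn hM, inferInstance, ?_⟩
  haveI := epi_of_surjective q
  have hιq : ι₀ ≫ q = 1 := Isogeny14.kerIncl_comp q
  rw [← cancel_epi q, reassoc_of% hs, Isogeny14.hom_pow_comp, MonObj.comp_pow, Category.comp_id, pow_mul]
  simp only [e, MonObj.mul_comp, GrpObj.inv_comp, Category.assoc, hιq, MonObj.comp_one, inv_one, _root_.mul_one,
    Isogeny14.hom_pow_comp, Category.id_comp]

end Groth.Agent.AVQuotH1
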