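import Groth.Agent.Lib.AVQuotH1.Kernel
import Groth.Agent.Lib.DimF18.Prod
import Mathlib.AlgebraicGeometry.AlgClosed.Basic

/-!
# Isogenies: quasi-inverses, finiteness from finitely many points, dimensions of products
-/

universe u

set_option autoImplicit false
set_option linter.style.haveILetI false
set_option backward.isDefEq.respectTransparency.types false

open CategoryTheory CategoryTheory.Limits MonoidalCategory CartesianMonoidalCategory MonObj AlgebraicGeometry
open scoped GrpObj

namespace Groth.Agent.AVQuotH1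

variable {k : Type u} [Field k]

theorem isClosedImmersion_eta (G : AV k) : IsClosedImmersion η[G.X].left := by
  haveI : IsClosedImmersion (η[G.X].left ≫ G.X.hom) := by
    rw [Over.w]; exact inferInstanceAs (IsClosedImmersion (𝟙 _))
  exact IsClosedImmersion.of_comp _ G.X.hom

/-- An isogeny has an inverse up to multiplication by a positive integer. -/
theorem exists_quasiInverse {Z Q : AV k} (f : Z.X ⟶ Q.X) [IsMonHom f] [IsFinite f.left] [Surjective f.left] :
    ∃ (N : ℕ) (g : Q.X ⟶ Z.X), 0 < N ∧ IsMonHom g ∧ f ≫ g = 𝟙 Z.X ^ N ∧ g ≫ f = 𝟙 Q.X ^ N := by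
  haveI : AlgebraicGeometry.IsIntegral Z.X.left := GeometricallyIntegral.isIntegral_of_subsingleton Z.X.hom
  haveI : AlgebraicGeometry.IsIntegral Q.X.left := GeometricallyIntegral.isIntegral_of_subsingleton Q.X.hom
  haveI : Flat f.left := AbRigid.flat_of_surjective Z.X Q.X f
  haveI : IsLocallyNoetherian Q.X.left := LocallyOfFiniteType.isLocallyNoetherian Q.X.hom
  let n := Scheme.Hom.finrank f.left (unitPt Q.X)
  have hn : 0 < n := by
    obtain ⟨z, hz⟩ := f.left.surjective (unitPt Q.X)
    have := Scheme.Hom.one_le_finrank_map f.left z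
    rw [hz] at this
    exact this
  have hdeg : ∀ s : Spec (CommRingCat.of k), Scheme.Hom.finrank f.left (η[Q.X].left s) = n := fun s => by
    rw [Subsingleton.elim (α := PrimeSpectrum k) s (IsLocalRing.closedPoint k)]
  have hker : ∀ {T : Scheme.{u}} (a b : T ⟶ Z.X.left), a ≫ f.left = b ≫ f.left →
      a ≫ (𝟙 Z.X ^ n).left = b ≫ (𝟙 Z.X ^ n).left := fun {T} a b hab => by
    let T' : Over (Spec (CommRingCat.of k)) := Over.mk (a ≫ Z.X.hom)
    let a' : T' ⟶ Z.X := Over.homMk a rfl
    let b' : T' ⟶ Z.X := Over.homMk b (by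
      show b ≫ Z.X.hom = a ≫ Z.X.hom
      rw [← Over.w f, ← Category.assoc, ← hab, Category.assoc])
    have h2 := Isogeny14.pow_eq_of_comp_eq f n hdeg a' b' (Over.OverMorphism.ext hab)
    have h3 : a' ≫ 𝟙 Z.X ^ n = b' ≫ 𝟙 Z.X ^ n := by
      rw [MonObj.comp_pow, MonObj.comp_pow, Category.comp_id, Category.comp_id, h2]
    exact congrArg CommaMorphism.left h3
  have hd := EffectiveEpi.fac f.left (𝟙 Z.X ^ n).left hker
  let g : Q.X ⟶ Z.X := Over.homMk (EffectiveEpi.desc f.left (𝟙 Z.X ^ n).left hker) (by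
    rw [← cancel_epi f.left, reassoc_of% hd, Over.w, Over.w])
  have hg : f ≫ g = 𝟙 Z.X ^ n := Over.OverMorphism.ext hd
  haveI : IsMonHom g := AbRigid.isMonHom_of_one Q.X Z.X g (by
    rw [← IsMonHom.one_hom (f := f), Category.assoc, hg, MonObj.comp_pow, Category.comp_id, one_eq_one, one_pow])
  haveI := epi_of_surjective f
  refine ⟨n, g, hn, inferInstance, hg, ?_⟩
  rw [← cancel_epi f, reassoc_of% hg, Isogeny14.hom_pow_comp, Category.id_comp, MonObj.comp_pow, Category.comp_id]

/-- A homomorphism out of a trivial abelian variety is trivial. -/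
theorem eq_one_of_subsingleton {Z Q : AV k} [Subsingleton Z.X.left] (f : Z.X ⟶ Q.X) [IsMonHom f] : f = 1 := by
  haveI : AlgebraicGeometry.IsIntegral Z.X.left := GeometricallyIntegral.isIntegral_of_subsingleton Z.X.hom
  haveI := isClosedImmersion_eta Z
  haveI : Surjective η[Z.X].left := ⟨fun z => ⟨IsLocalRing.closedPoint k, Subsingleton.elim _ _⟩⟩
  haveI : IsIso η[Z.X].left := isIso_of_isClosedImmersion_of_surjective _
  haveI : IsIso ((Over.forget _).map η[Z.X]) := ‹IsIso η[Z.X].left›
  haveI : IsIso η[Z.X] := isIso_of_reflects_iso η[Z.X] (Over.forget _)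
  rw [← cancel_epi η[Z.X], IsMonHom.one_hom, MonObj.comp_one, one_eq_one]

theorem subsingleton_of_dim_zero {Z : AV k} (h : topologicalKrullDim Z.X.left = 0) : Subsingleton Z.X.left := by
  haveI : AlgebraicGeometry.IsIntegral Z.X.left := GeometricallyIntegral.isIntegral_of_subsingleton Z.X.hom
  exact subsingleton_of_dim_eq_zero h

/-- A homomorphism whose kernel has a trivial unit component is finite. -/
theorem isFinite_of_trivial_component {P R : AV k} (f : P.X ⟶ R.X) [IsMonHom f] {X : AV k} (x : X.X ⟶ P.X)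
    [IsMonHom x] [Subsingleton X.X.left] (U : P.X.left.Opens) (hU : unitPt P.X ∈ U)
    (hrange : ∀ p ∈ U, f.left p = unitPt R.X → p ∈ Set.range x.left) : IsFinite f.left :=
  isFinite_of_isolated f U hU fun p hp hfp => by
    obtain ⟨t, rfl⟩ := hrange p hp hfp
    rw [eq_one_of_subsingleton x, one_left_apply]

/-- A homomorphism killing only finitely many rational points is finite. -/
theorem isFinite_of_finite_points [IsAlgClosed k] {P R : AV k} (f : P.X ⟶ R.X) [IsMonHom f]
    (h : Set.Finite {a : 𝟙_ (Over (Spec (CommRingCat.of k))) ⟶ P.X | a ≫ f = 1}) : IsFinite f.left := by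
  obtain ⟨X, x, U, _, _, hxf, hU, hrange⟩ := exists_unit_component f
  haveI : Mono x := Over.mono_of_mono_left x
  haveI : AlgebraicGeometry.IsIntegral X.X.left := GeometricallyIntegral.isIntegral_of_subsingleton X.X.hom
  haveI : JacobsonSpace X.X.left := LocallyOfFiniteType.jacobsonSpace X.X.hom
  have hfin : (closedPoints X.X.left).Finite := by
    have hpts : Set.Finite {a : 𝟙_ (Over (Spec (CommRingCat.of k))) ⟶ X.X | True} := by
      refine Set.Finite.of_finite_image (f := fun a => a ≫ x) (h.subset ?_) fun a _ b _ hab => (cancel_mono x).1 hab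
      rintro _ ⟨a, -, rfl⟩
      show (a ≫ x) ≫ f = 1
      rw [Category.assoc, hxf, MonObj.comp_one]
    refine (hpts.image fun a => a.left (IsLocalRing.closedPoint k)).subset fun z hz => ?_
    exact ⟨Over.homMk ((pointEquivClosedPoint X.X.hom).symm ⟨z, hz⟩).1
      ((pointEquivClosedPoint X.X.hom).symm ⟨z, hz⟩).2, trivial,
      congrArg Subtype.val ((pointEquivClosedPoint X.X.hom).apply_symm_apply ⟨z, hz⟩)⟩
  have huniv : closedPoints X.X.left = Set.univ := by
    refine (closure_closedPoints (X := X.X.left)).symm.trans ?_ |>.symm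
    rw [IsClosed.closure_eq]
    rw [← Set.biUnion_of_singleton (closedPoints X.X.left)]
    exact hfin.isClosed_biUnion fun z hz => hz
  haveI : Subsingleton X.X.left := ⟨fun a b => by
    have hcl : ∀ z : X.X.left, IsClosed ({z} : Set X.X.left) := fun z => huniv.ge (Set.mem_univ z)
    have hg : ∀ z : X.X.left, z = genericPoint X.X.left := fun z =>
      (genericPoint_specializes z).mem_closed (hcl (genericPoint X.X.left)) rfl
    rw [hg a, hg b]⟩
  exact isFinite_of_trivial_component f x U hU hrange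

theorem dim_tensor (A B : AV k) {a b : ℕ} (ha : topologicalKrullDim A.X.left = a)
    (hb : topologicalKrullDim B.X.left = b) : topologicalKrullDim (A.X ⊗ B.X).left = ((a + b : ℕ) : WithBot ℕ∞) := by
  haveI : AlgebraicGeometry.IsIntegral A.X.left := GeometricallyIntegral.isIntegral_of_subsingleton A.X.hom
  haveI : AlgebraicGeometry.IsIntegral B.X.left := GeometricallyIntegral.isIntegral_of_subsingleton B.X.hom
  haveI := AbRigid.geometricallyIntegral_tensorObj A.X B.X
  haveI : LocallyOfFiniteType (A.X ⊗ B.X).hom := by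
    show LocallyOfFiniteType (pullback.fst A.X.hom B.X.hom ≫ A.X.hom)
    infer_instance
  haveI : AlgebraicGeometry.IsIntegral (A.X ⊗ B.X).left :=
    GeometricallyIntegral.isIntegral_of_subsingleton (A.X ⊗ B.X).hom
  rw [VarDim.dim_eq_sdim_genericPoint A.X.hom, Nat.cast_inj] at ha
  rw [VarDim.dim_eq_sdim_genericPoint B.X.hom, Nat.cast_inj] at hb
  rw [VarDim.dim_eq_sdim_genericPoint (A.X ⊗ B.X).hom, Nat.cast_inj]
  have hle : ∀ {Y : Scheme.{u}} (g : Y ⟶ Spec (CommRingCat.of k)) [LocallyOfFiniteType g] [IrreducibleSpace Y]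
      (y : Y), VarDim.sdim g y ≤ VarDim.sdim g (genericPoint Y) := fun {Y} g _ _ y => by
    by_cases e : genericPoint Y = y
    · rw [← e]
    · exact (VarDim.sdim_lt_of_specializes g (genericPoint_specializes y) e).le
  refine le_antisymm ?_ ?_
  · calc VarDim.sdim (A.X ⊗ B.X).hom (genericPoint (A.X ⊗ B.X).left)
        ≤ _ := (DimF18.sdim_prod A.X.hom B.X.hom (genericPoint (A.X ⊗ B.X).left)).1
      _ ≤ a + b := add_le_add (ha ▸ hle A.X.hom _) (hb ▸ hle B.X.hom _)
  · obtain ⟨m, hm⟩ := DimF18.exists_prod_sdim A.X.hom B.X.hom (genericPoint A.X.left) (genericPoint B.X.left)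
    rw [← ha, ← hb, ← hm]
    exact hle (A.X ⊗ B.X).hom m

/-- A product of a finite family of abelian varieties. -/
theorem exists_prod_family {X : Over (Spec (CommRingCat.of k))} [GrpObj X] :
    ∀ (n : ℕ) (B : Fin n → AV k) (d : Fin n → ℕ) (_ : ∀ i, topologicalKrullDim (B i).X.left = d i)
      (ψ : ∀ i, X ⟶ (B i).X) (_ : ∀ i, IsMonHom (ψ i)),
      ∃ (P : AV k) (Φ : X ⟶ P.X) (pr : ∀ i, P.X ⟶ (B i).X) (inj : ∀ i, (B i).X ⟶ P.X),
        IsMonHom Φ ∧ (∀ i, IsMonHom (pr i)) ∧ (∀ i, IsMonHom (inj i)) ∧ (∀ i, Φ ≫ pr i = ψ i) ∧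
          (∀ i, inj i ≫ pr i = 𝟙 (B i).X) ∧ (∀ i j, i ≠ j → inj i ≫ pr j = 1) ∧
          topologicalKrullDim P.X.left = ((∑ i, d i : ℕ) : WithBot ℕ∞) ∧
          ∀ (T : Over (Spec (CommRingCat.of k))) (x y : T ⟶ P.X), (∀ i, x ≫ pr i = y ≫ pr i) → x = y := by
  intro n
  induction n with
  | zero =>
    intro B d _ ψ _
    haveI : IsProper (𝟙_ (Over (Spec (CommRingCat.of k)))).hom := inferInstanceAs (IsProper (𝟙 _))
    haveI : GeometricallyIntegral (𝟙_ (Over (Spec (CommRingCat.of k)))).hom := geometricallyIntegral_id k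
    refine ⟨⟨𝟙_ _⟩, toUnit X, fun i => i.elim0, fun i => i.elim0, inferInstanceAs (IsMonHom (toUnit X)),
      fun i => i.elim0, fun i => i.elim0, fun i => i.elim0, fun i => i.elim0, fun i => i.elim0, ?_,
      fun T x y _ => toUnit_unique x y⟩
    show topologicalKrullDim ↥(Spec (CommRingCat.of k)) = _
    simp only [Finset.univ_eq_empty, Finset.sum_empty, Nat.cast_zero]
    exact (PrimeSpectrum.topologicalKrullDim_eq_ringKrullDim k).trans (ringKrullDim_eq_zero_of_field k)
  | succ n ih =>
    intro B d hd ψ hψ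
    obtain ⟨P, Φ, pr, inj, hΦ, hpr, hinj, hfac, hid, hzero, hdim, hext⟩ :=
      ih (fun i => B i.succ) (fun i => d i.succ) (fun i => hd i.succ) (fun i => ψ i.succ) (fun i => hψ i.succ)
    haveI := hψ 0
    haveI : IsProper ((B 0).X ⊗ P.X).hom := by
      show IsProper (pullback.fst (B 0).X.hom P.X.hom ≫ (B 0).X.hom)
      infer_instance
    haveI : GeometricallyIntegral ((B 0).X ⊗ P.X).hom := AbRigid.geometricallyIntegral_tensorObj (B 0).X P.X
    refine ⟨⟨(B 0).X ⊗ P.X⟩, lift (ψ 0) Φ,
      Fin.cases (motive := fun i => ((B 0).X ⊗ P.X) ⟶ (B i).X) (fst (B 0).X P.X) (fun i => snd (B 0).X P.X ≫ pr i),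
      Fin.cases (motive := fun i => (B i).X ⟶ ((B 0).X ⊗ P.X)) (lift (𝟙 (B 0).X) 1) (fun i => lift 1 (inj i)),
      inferInstanceAs (IsMonHom (lift (ψ 0) Φ)), ?_, ?_, ?_, ?_, ?_, ?_, ?_⟩
    · intro i
      refine Fin.cases ?_ (fun i => ?_) i
      · exact inferInstanceAs (IsMonHom (fst (B 0).X P.X))
      · haveI := hpr i
        exact inferInstanceAs (IsMonHom (snd (B 0).X P.X ≫ pr i))
    · intro i
      refine Fin.cases ?_ (fun i => ?_) i
      · show IsMonHom (lift (𝟙 (B 0).X) (1 : (B 0).X ⟶ P.X)); rw [Hom.one_def]; infer_instance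
      · haveI := hinj i
        show IsMonHom (lift (1 : (B i.succ).X ⟶ (B 0).X) (inj i)); rw [Hom.one_def]; infer_instance
    · intro i
      refine Fin.cases ?_ (fun i => ?_) i
      · simp
      · simp [hfac]
    · intro i
      refine Fin.cases ?_ (fun i => ?_) i
      · simp
      · simp [hid]
    · intro i j
      refine Fin.cases ?_ (fun i => ?_) i <;> refine Fin.cases ?_ (fun j => ?_) j
      · simp
      · haveI := hpr j
        intro
        simp [MonObj.one_comp]
      · intro
        simp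
      · intro h
        haveI := hpr j
        simp [hzero i j (fun e => h (congrArg Fin.succ e))]
    · rw [dim_tensor (B 0) P (hd 0) hdim, Fin.sum_univ_succ]
    · intro T x y h
      refine CartesianMonoidalCategory.hom_ext _ _ (by simpa using h 0) (hext T _ _ fun i => ?_)
      simpa [Category.assoc] using h i.succ

end Groth.Agent.AVQuotH1
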