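import Groth.Agent.Lib.AVQuotH1.Basic
import Groth.Agent.Lib.BorelFix21.Stabilizer
import Groth.Agent.Lib.GrpNeutral20.Smooth
import Groth.Agent.Lib.AbRigid.SmoothGI
import Groth.Agent.Lib.AbRigid.GrpTop
import Groth.Agent.Lib.AbRigid.FibreDim
import Groth.Agent.Lib.Isogeny14.Kernel
import Mathlib.AlgebraicGeometry.Morphisms.QuasiFinite
import Mathlib.AlgebraicGeometry.Morphisms.FlatRank
import Mathlib.FieldTheory.Perfect

/-!
# The unit component of a kernel, and factoring a multiple of a homomorphism through an image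
-/

universe u

set_option autoImplicit false
set_option linter.style.haveILetI false
set_option backward.isDefEq.respectTransparency.types false

open CategoryTheory CategoryTheory.Limits MonoidalCategory CartesianMonoidalCategory MonObj AlgebraicGeometry
open scoped GrpObj

namespace Groth.Agent.AVQuotH1

variable {k : Type u} [Field k]

/-- The point of the unit section. -/
noncomputable abbrev unitPt (G : Over (Spec (CommRingCat.of k))) [GrpObj G] : G.left :=
  η[G].left (IsLocalRing.closedPoint k)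

theorem range_eta (G : Over (Spec (CommRingCat.of k))) [GrpObj G] :
    Set.range η[G].left = {unitPt G} := by
  ext z
  constructor
  · rintro ⟨s, rfl⟩
    exact congrArg η[G].left (Subsingleton.elim (α := PrimeSpectrum k) s _)
  · rintro rfl
    exact ⟨_, rfl⟩

theorem one_left_apply {T G : Over (Spec (CommRingCat.of k))} [GrpObj G] (t : T.left) :
    (1 : T ⟶ G).left t = unitPt G := by
  have h : (1 : T ⟶ G).left t ∈ Set.range η[G].left := ⟨(toUnit T).left t, by
    rw [Hom.one_def, Over.comp_left, Scheme.Hom.comp_apply]⟩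
  rw [range_eta] at h
  exact h

/-- The unit component of the kernel of a homomorphism, with its reduced structure. -/
theorem exists_unit_component [PerfectField k] {P R : AV k} (ρ : P.X ⟶ R.X) [IsMonHom ρ] :
    ∃ (X : AV k) (x : X.X ⟶ P.X) (U : P.X.left.Opens), IsMonHom x ∧ IsClosedImmersion x.left ∧ x ≫ ρ = 1 ∧
      unitPt P.X ∈ U ∧ ∀ p ∈ U, ρ.left p = unitPt R.X → p ∈ Set.range x.left := by
  letI := Isogeny14.kerGrp ρ
  haveI := Isogeny14.isMonHom_kerIncl ρ
  haveI : IsClosedImmersion η[R.X].left := by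
    haveI : IsClosedImmersion (η[R.X].left ≫ R.X.hom) := by
      rw [Over.w]; exact inferInstanceAs (IsClosedImmersion (𝟙 _))
    exact IsClosedImmersion.of_comp _ R.X.hom
  haveI : IsClosedImmersion (Isogeny14.kerIncl ρ).left :=
    inferInstanceAs (IsClosedImmersion (pullback.fst ρ.left η[R.X].left))
  haveI : IsProper (Isogeny14.kerOver ρ).hom := by
    rw [← Over.w (Isogeny14.kerIncl ρ)]; infer_instance
  obtain ⟨H, _, r, _, _, _, _, _⟩ := BorelFix21.exists_reduced_subgroup (Isogeny14.kerOver ρ)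
  let ι₀ : H ⟶ P.X := r ≫ Isogeny14.kerIncl ρ
  haveI : IsClosedImmersion ι₀.left := inferInstanceAs (IsClosedImmersion (r.left ≫ (Isogeny14.kerIncl ρ).left))
  haveI : IsProper H.hom := by rw [← Over.w ι₀]; infer_instance
  haveI : Smooth ((⊤ : H.left.Opens).ι ≫ H.hom) := inferInstance
  obtain ⟨hopen, H0, _, i, _, _, hrange, _, _⟩ :=
    GrpNeutral20.exists_openSubgroup H (⊤ : H.left.Opens) (fun _ => trivial)
  haveI : Mono i := Over.mono_of_mono_left i
  have hcl : IsClosed (Set.range i.left) := AbRigid.isClosed_range_of_isOpen i i.left.isOpenEmbedding.isOpen_range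
  haveI : IsClosedImmersion i.left := IsClosedImmersion.of_isPreimmersion i.left hcl
  haveI : IsProper H0.hom := by rw [← Over.w i]; infer_instance
  haveI : Subsingleton ↥(𝟙_ (Over (Spec (CommRingCat.of k)))).left :=
    inferInstanceAs (Subsingleton (PrimeSpectrum k))
  have hns : SGA3x.neutralSet H = connectedComponentIn Set.univ (unitPt H) := by
    have hpre : ∀ p : ↥(𝟙_ (Over (Spec (CommRingCat.of k)))).left,
        H.hom.base ⁻¹' {(𝟙_ (Over (Spec (CommRingCat.of k)))).hom.base p} = Set.univ :=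
      fun p => Set.eq_univ_of_forall fun z => Subsingleton.elim (α := PrimeSpectrum k) _ _
    refine Set.Subset.antisymm (Set.iUnion_subset fun p => ?_) (fun z hz => ?_)
    · rw [hpre p, Subsingleton.elim p (IsLocalRing.closedPoint k)]
    · refine Set.mem_iUnion.2 ⟨IsLocalRing.closedPoint k, ?_⟩
      rw [hpre]; exact hz
  have hconn : _root_.IsConnected (Set.range i.left) := by
    rw [hrange, hns, connectedComponentIn_univ]; exact isConnected_connectedComponent
  haveI : ConnectedSpace H0.left := by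
    haveI : Nonempty H0.left := ⟨unitPt H0⟩
    haveI : PreconnectedSpace H0.left :=
      ⟨i.left.isOpenEmbedding.isInducing.isPreconnected_image.1 (by rw [Set.image_univ]; exact hconn.2)⟩
    exact ⟨inferInstance⟩
  haveI : GeometricallyReduced H0.hom := AbRigid.geometricallyReduced_of_smooth H0.hom
  haveI : GeometricallyIntegral H0.hom := AbRigid.geometricallyIntegral_of_connected H0
  haveI := isCommMonObj_of_isProper_of_geometricallyIntegral H0
  obtain ⟨V, hVo, hV⟩ := ι₀.left.isClosedEmbedding.isInducing.isOpen_iff.1 hopen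
  refine ⟨⟨H0⟩, i ≫ ι₀, ⟨V, hVo⟩, inferInstance,
    inferInstanceAs (IsClosedImmersion (i.left ≫ ι₀.left)), ?_, ?_, fun p hp hρ => ?_⟩
  · show (i ≫ r ≫ Isogeny14.kerIncl ρ) ≫ ρ = 1
    rw [Category.assoc, Category.assoc, Isogeny14.kerIncl_comp, MonObj.comp_one, MonObj.comp_one]
  · have h1 : ι₀.left (unitPt H) = unitPt P.X := by
      rw [← Scheme.Hom.comp_apply, ← Over.comp_left, IsMonHom.one_hom]
    show unitPt P.X ∈ V
    rw [← h1]
    show unitPt H ∈ ι₀.left ⁻¹' V
    rw [hV, hns, connectedComponentIn_univ]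
    exact mem_connectedComponent
  · have hp' : p ∈ Set.range (Isogeny14.kerIncl ρ).left := by
      show p ∈ Set.range (pullback.fst ρ.left η[R.X].left)
      rw [Scheme.Pullback.range_fst, Set.mem_preimage, range_eta]
      exact hρ
    obtain ⟨g, rfl⟩ := hp'
    obtain ⟨h, rfl⟩ := r.left.surjective g
    have hh : h ∈ Set.range i.left := by
      rw [hrange, ← hV]
      exact hp
    obtain ⟨h0, rfl⟩ := hh
    exact ⟨h0, rfl⟩

theorem subsingleton_of_dim_eq_zero {α : Type*} [TopologicalSpace α] [T0Space α] [IrreducibleSpace α]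
    (h : topologicalKrullDim α = 0) : Subsingleton α := by
  refine ⟨fun a b => ?_⟩
  have key : ∀ c d : α, c ⤳ d := fun c d => by
    let C : TopologicalSpace.IrreducibleCloseds α :=
      ⟨closure {c}, isIrreducible_singleton.closure, isClosed_closure⟩
    let T : TopologicalSpace.IrreducibleCloseds α := ⟨Set.univ, IrreducibleSpace.isIrreducible_univ α, isClosed_univ⟩
    have hm : IsMax C := Order.krullDim_nonpos_iff_forall_isMax.1 h.le C
    have hle : T ≤ C := hm (show C ≤ T from fun z _ => trivial)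
    exact specializes_iff_mem_closure.2 (hle (show d ∈ T from trivial))
  exact ((key a b).antisymm (key b a)).eq

/-- A surjective homomorphism of abelian varieties with the unit isolated in the fibre over the unit is
finite. -/
theorem isFinite_of_isolated {Z Q : AV k} (f : Z.X ⟶ Q.X) [IsMonHom f]
    (W : Z.X.left.Opens) (hW : unitPt Z.X ∈ W) (hiso : ∀ z ∈ W, f.left z = unitPt Q.X → z = unitPt Z.X) :
    IsFinite f.left := by
  haveI := quasiCompact_left f
  obtain ⟨d, hd⟩ := AbRigid.exists_dim_components f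
  have hfe : f.left (unitPt Z.X) = unitPt Q.X := by
    rw [← Scheme.Hom.comp_apply, ← Over.comp_left, IsMonHom.one_hom]
  let Fi : Set ↥(f.left.fiber (unitPt Q.X)) := (f.left.fiberι (unitPt Q.X)) ⁻¹' {unitPt Z.X}
  have hcl : IsClosed ({unitPt Z.X} : Set Z.X.left) := by
    rw [← range_eta]
    haveI : IsClosedImmersion η[Z.X].left := by
      haveI : IsClosedImmersion (η[Z.X].left ≫ Z.X.hom) := by
        rw [Over.w]; exact inferInstanceAs (IsClosedImmersion (𝟙 _))
      exact IsClosedImmersion.of_comp _ Z.X.hom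
    exact η[Z.X].left.isClosedEmbedding.isClosed_range
  have hopen : IsOpen Fi := by
    have e : Fi = (f.left.fiberι (unitPt Q.X)) ⁻¹' (W : Set Z.X.left) := by
      ext z
      refine ⟨fun hz => ?_, fun hz => hiso _ hz ?_⟩
      · show f.left.fiberι _ z ∈ W
        rw [show f.left.fiberι _ z = unitPt Z.X from hz]; exact hW
      · have hm : f.left.fiberι (unitPt Q.X) z ∈ Set.range (f.left.fiberι (unitPt Q.X)) := ⟨z, rfl⟩
        rwa [f.left.range_fiberι] at hm
    rw [e]; exact W.2.preimage (f.left.fiberι _).continuous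
  obtain ⟨ζ, hζ⟩ : ∃ ζ, f.left.fiberι (unitPt Q.X) ζ = unitPt Z.X := by
    have hm : unitPt Z.X ∈ f.left ⁻¹' {unitPt Q.X} := hfe
    rwa [← f.left.range_fiberι] at hm
  have hFi : Fi = {ζ} := Set.ext fun z =>
    ⟨fun hz => (f.left.fiberι _).isEmbedding.injective ((show f.left.fiberι _ z = unitPt Z.X from hz).trans hζ.symm),
      fun hz => by rw [Set.mem_singleton_iff.1 hz]; exact hζ⟩
  have hclopen : IsClopen Fi := ⟨hcl.preimage (f.left.fiberι _).continuous, hopen⟩
  have hcomp : Fi ∈ irreducibleComponents ↥(f.left.fiber (unitPt Q.X)) := by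
    refine ⟨by rw [hFi]; exact isIrreducible_singleton, fun T hT hle => ?_⟩
    exact hT.isConnected.isPreconnected.subset_isClopen hclopen ⟨ζ, hle (hFi.ge rfl), hFi.ge rfl⟩
  have hd0 : topologicalKrullDim ↥Fi = d := hd _ Fi hcomp
  haveI : Subsingleton ↥Fi := by rw [hFi]; infer_instance
  haveI : Nonempty ↥Fi := ⟨⟨ζ, hFi.ge rfl⟩⟩
  haveI : Subsingleton (TopologicalSpace.IrreducibleCloseds ↥Fi) := ⟨fun a b =>
    TopologicalSpace.IrreducibleCloseds.ext (Set.ext fun z => by
      obtain ⟨a', ha'⟩ := a.isIrreducible.nonempty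
      obtain ⟨b', hb'⟩ := b.isIrreducible.nonempty
      exact ⟨fun _ => Subsingleton.elim b' z ▸ hb', fun _ => Subsingleton.elim a' z ▸ ha'⟩)⟩
  haveI : Nonempty (TopologicalSpace.IrreducibleCloseds ↥Fi) :=
    ⟨⟨closure {⟨ζ, hFi.ge rfl⟩}, isIrreducible_singleton.closure, isClosed_closure⟩⟩
  have hd' : (d : WithBot ℕ∞) = 0 := hd0.symm.trans Order.krullDim_eq_zero
  have hfin : ∀ y, (f.left ⁻¹' {y}).Finite := fun y => by
    haveI : LocallyOfFiniteType f.left := inferInstance
    haveI : LocallyOfFiniteType (f.left.fiberToSpecResidueField y) :=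
      MorphismProperty.pullback_snd (P := @LocallyOfFiniteType) _ _ ‹_›
    haveI : QuasiCompact (f.left.fiberToSpecResidueField y) :=
      MorphismProperty.pullback_snd (P := @QuasiCompact) _ _ inferInstance
    haveI : IsLocallyNoetherian (f.left.fiber y) :=
      LocallyOfFiniteType.isLocallyNoetherian (f.left.fiberToSpecResidueField y)
    haveI : CompactSpace (f.left.fiber y) :=
      QuasiCompact.compactSpace_of_compactSpace (f.left.fiberToSpecResidueField y)
    haveI : IsNoetherian (f.left.fiber y) := ⟨⟩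
    have : Finite (f.left.fiber y) := by
      refine Set.finite_univ_iff.1 (Set.Finite.subset
        (Set.Finite.biUnion TopologicalSpace.NoetherianSpace.finite_irreducibleComponents (t := fun C => C) fun C hC => ?_)
        (fun z _ => Set.mem_biUnion (irreducibleComponent_mem_irreducibleComponents z) mem_irreducibleComponent))
      haveI : IrreducibleSpace ↥C := isIrreducible_iff_irreducibleSpace.1 hC.1
      haveI := subsingleton_of_dim_eq_zero ((hd y C hC).trans hd')
      exact Set.toFinite C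
    rw [← f.left.range_fiberι]
    exact Set.finite_range _
  haveI : LocallyQuasiFinite f.left := LocallyQuasiFinite.of_finite_preimage_singleton f.left hfin
  exact (IsFinite.iff_isProper_and_locallyQuasiFinite f.left).2 ⟨inferInstance, inferInstance⟩

/-- A multiple of a homomorphism which kills the unit component of the kernel of `ρ` factors through the
image of `ρ`. -/
theorem exists_nsmul_factor {P R A : AV k} (ρ : P.X ⟶ R.X) [IsMonHom ρ] (g : P.X ⟶ A.X) [IsMonHom g]
    {X : Over (Spec (CommRingCat.of k))} (x : X ⟶ P.X) (hxρ : x ≫ ρ = 1) (hxg : x ≫ g = 1)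
    (U : P.X.left.Opens) (hU : unitPt P.X ∈ U)
    (hrange : ∀ p ∈ U, ρ.left p = unitPt R.X → p ∈ Set.range x.left) :
    ∃ (Q : AV k) (j : Q.X ⟶ R.X) (q : P.X ⟶ Q.X) (N : ℕ) (h : Q.X ⟶ A.X), IsMonHom j ∧
      IsClosedImmersion j.left ∧ IsMonHom q ∧ Surjective q.left ∧ IsMonHom h ∧ q ≫ j = ρ ∧ 0 < N ∧
      q ≫ h = g ^ N := by
  haveI : IsProper (R.X ⊗ A.X).hom := by
    show IsProper (pullback.fst R.X.hom A.X.hom ≫ R.X.hom)
    infer_instance
  haveI : IsMonHom (lift ρ g) := inferInstance
  obtain ⟨Z, _, jZ, qZ, _, _, _, _, _, _, -, -, hZ⟩ := AbRigid.exists_image P.X (R.X ⊗ A.X) (lift ρ g)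
  haveI := isCommMonObj_of_isProper_of_geometricallyIntegral Z
  obtain ⟨Q, _, j, π, _, _, _, _, _, _, -, -, hπj⟩ := AbRigid.exists_image Z R.X (jZ ≫ fst R.X A.X)
  haveI := isCommMonObj_of_isProper_of_geometricallyIntegral Q
  haveI : Mono jZ := Over.mono_of_mono_left jZ
  haveI : Mono j := Over.mono_of_mono_left j
  haveI : AlgebraicGeometry.IsIntegral Z.left := GeometricallyIntegral.isIntegral_of_subsingleton Z.hom
  haveI : AlgebraicGeometry.IsIntegral Q.left := GeometricallyIntegral.isIntegral_of_subsingleton Q.hom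
  haveI : Flat qZ.left := AbRigid.flat_of_surjective P.X Z qZ
  haveI : Flat π.left := AbRigid.flat_of_surjective Z Q π
  haveI := quasiCompact_left qZ
  haveI := quasiCompact_left π
  haveI : IsLocallyNoetherian Z.left := LocallyOfFiniteType.isLocallyNoetherian Z.hom
  haveI : IsLocallyNoetherian Q.left := LocallyOfFiniteType.isLocallyNoetherian Q.hom
  have hqρ : (qZ ≫ π) ≫ j = ρ := by
    rw [Category.assoc, hπj, reassoc_of% hZ, lift_fst]
  have hxq : x ≫ qZ = 1 := by
    rw [← cancel_mono jZ, Category.assoc, hZ, MonObj.one_comp]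
    refine CartesianMonoidalCategory.hom_ext _ _ ?_ ?_
    · rw [Category.assoc, lift_fst, hxρ, MonObj.one_comp]
    · rw [Category.assoc, lift_snd, hxg, MonObj.one_comp]
  have hopen : IsOpenMap qZ.left := qZ.left.isOpenMap
  haveI : IsFinite π.left := isFinite_of_isolated (Z := ⟨Z⟩) (Q := ⟨Q⟩) π ⟨qZ.left '' U, hopen _ U.2⟩
    ⟨_, hU, by rw [← Scheme.Hom.comp_apply, ← Over.comp_left, IsMonHom.one_hom]⟩
    (by
      rintro _ ⟨p, hp, rfl⟩ hz
      obtain ⟨t, rfl⟩ := hrange p hp (by
        rw [← hqρ, Over.comp_left, Scheme.Hom.comp_apply, Over.comp_left, Scheme.Hom.comp_apply, hz,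
          ← Scheme.Hom.comp_apply, ← Over.comp_left, IsMonHom.one_hom])
      rw [← Scheme.Hom.comp_apply, ← Over.comp_left, hxq, one_left_apply])
  haveI : LocallyOfFinitePresentation π.left := inferInstance
  let n := Scheme.Hom.finrank π.left (unitPt Q)
  have hn : 0 < n := by
    obtain ⟨z, hz⟩ := π.left.surjective (unitPt Q)
    have := Scheme.Hom.one_le_finrank_map π.left z
    rw [hz] at this
    exact this
  have hdeg : ∀ s : Spec (CommRingCat.of k), Scheme.Hom.finrank π.left (η[Q].left s) = n := fun s => by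
    rw [Subsingleton.elim (α := PrimeSpectrum k) s (IsLocalRing.closedPoint k)]
  let gZ : Z ⟶ A.X := jZ ≫ snd R.X A.X
  have hgZ : qZ ≫ gZ = g := by rw [reassoc_of% hZ, lift_snd]
  have hker : ∀ {T : Scheme.{u}} (a b : T ⟶ Z.left), a ≫ π.left = b ≫ π.left →
      a ≫ (gZ ^ n).left = b ≫ (gZ ^ n).left := fun {T} a b hab => by
    let T' : Over (Spec (CommRingCat.of k)) := Over.mk (a ≫ Z.hom)
    let a' : T' ⟶ Z := Over.homMk a rfl
    let b' : T' ⟶ Z := Over.homMk b (by
      show b ≫ Z.hom = a ≫ Z.hom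
      rw [← Over.w π, ← Category.assoc, ← hab, Category.assoc])
    have h1 : a' ≫ π = b' ≫ π := Over.OverMorphism.ext hab
    have h2 := Isogeny14.pow_eq_of_comp_eq π n hdeg a' b' h1
    have h3 : a' ≫ gZ ^ n = b' ≫ gZ ^ n := by
      rw [MonObj.comp_pow, MonObj.comp_pow, ← Isogeny14.hom_pow_comp, ← Isogeny14.hom_pow_comp, h2]
    exact congrArg CommaMorphism.left h3
  have hk : ∀ {T : Scheme.{u}} (a b : T ⟶ Z.left), a ≫ π.left = b ≫ π.left →
      a ≫ (gZ ^ n).left = b ≫ (gZ ^ n).left := hker
  have hd := EffectiveEpi.fac π.left (gZ ^ n).left hk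
  let h : Q ⟶ A.X := Over.homMk (EffectiveEpi.desc π.left (gZ ^ n).left hk) (by
    rw [← cancel_epi π.left, reassoc_of% hd, Over.w, Over.w])
  have hh : π ≫ h = gZ ^ n := Over.OverMorphism.ext hd
  haveI : IsMonHom h := AbRigid.isMonHom_of_one Q A.X h (by
    rw [← IsMonHom.one_hom (f := π), Category.assoc, hh, MonObj.comp_pow, IsMonHom.one_hom, one_eq_one, one_pow])
  refine ⟨⟨Q⟩, j, qZ ≫ π, n, h, inferInstance, inferInstance, inferInstance,
    inferInstanceAs (Surjective (qZ.left ≫ π.left)), inferInstance, hqρ, hn, ?_⟩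
  rw [Category.assoc, hh, MonObj.comp_pow, hgZ]

end Groth.Agent.AVQuotH1
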