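import Groth.Agent.Lib.Seesaw13.Locus
import Groth.Agent.Lib.CubeField.Mumford22

/-!
# The subscheme of points whose Mumford pairing with an abelian subvariety is trivial
-/

set_option autoImplicit false
set_option linter.style.haveILetI false
set_option backward.isDefEq.respectTransparency false

universe u

open CategoryTheory CategoryTheory.Limits MonoidalCategory CartesianMonoidalCategory AlgebraicGeometry
open scoped MonObj GrpObj

noncomputable section

namespace Groth.Agent.AVQuotH1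

noncomputable local instance instLawLocus (Y : Scheme.{u}) : PicGrp.Law Y := M2.law Y

open CubeField Seesaw13

variable {k : Type u} [Field k] {A B : Over (Spec (CommRingCat.of k))} [GrpObj A] [GrpObj B]
  (i : B ⟶ A) [IsMonHom i] {L : A.left.Modules} (hL : PicF.IsInvertible L)

/-- The pairing of the point `z` with all of `B` is trivial. -/
def Crit {T : Over (Spec (CommRingCat.of k))} (z : T ⟶ A) : Prop :=
  D L hL (fst B T ≫ i) (snd B T ≫ z) = 1

theorem isPullback_whisker (B : Over (Spec (CommRingCat.of k))) {T A : Over (Spec (CommRingCat.of k))} (z : T ⟶ A) :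
    IsPullback (B ◁ z).left (snd B T).left (snd B A).left z.left := by
  refine IsPullback.of_right ?_ (by rw [← Over.comp_left, whiskerLeft_snd, Over.comp_left])
    (IsPullback.of_hasPullback B.hom A.hom : IsPullback (fst B A).left (snd B A).left B.hom A.hom)
  have h : (B ◁ z).left ≫ (fst B A).left = (fst B T).left := by rw [← Over.comp_left, whiskerLeft_fst]
  have h0 : IsPullback (fst B T).left (snd B T).left B.hom T.hom := IsPullback.of_hasPullback B.hom T.hom
  rw [← h, ← Over.w z] at h0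
  exact h0

variable [IsProper A.hom] [IsProper B.hom] [GeometricallyIntegral B.hom]

/-- The locus exists. -/
theorem exists_locus :
    ∃ (G : Over (Spec (CommRingCat.of k))) (g₀ : G ⟶ A), IsClosedImmersion g₀.left ∧
      ∀ (T : Over (Spec (CommRingCat.of k))) (z : T ⟶ A), Crit i hL z ↔ ∃ y : T ⟶ G, y ≫ g₀ = z := by
  haveI : IsLocallyNoetherian A.left := LocallyOfFiniteType.isLocallyNoetherian A.hom
  let f : (B ⊗ A).left ⟶ A.left := (snd B A).left
  haveI : IsProper f := inferInstanceAs (IsProper (pullback.snd B.hom A.hom))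
  haveI : Flat B.hom := inferInstance
  haveI : Flat f := inferInstanceAs (Flat (pullback.snd B.hom A.hom))
  haveI : GeometricallyIntegral f := inferInstanceAs (GeometricallyIntegral (pullback.snd B.hom A.hom))
  let Λ : PicLoc.PicSet (B ⊗ A).left := D L hL (fst B A ≫ i) (snd B A)
  obtain ⟨N, hN, hΛ⟩ := PicGrp.exists_eq_cls Λ
  obtain ⟨I, hI⟩ := exists_idealSheaf f N hN
  refine ⟨Over.mk (I.subschemeι ≫ A.hom), Over.homMk I.subschemeι rfl,
    inferInstanceAs (IsClosedImmersion I.subschemeι), fun T z => ?_⟩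
  have key : Good f N z.left ↔ ∃ M : T.left.Modules, PicF.IsInvertible M ∧
      Nonempty ((Scheme.Modules.pullback (B ◁ z).left).obj N ≅ (Scheme.Modules.pullback (snd B T).left).obj M) := by
    let j := (isPullback_whisker B z).isoPullback
    have h1 : j.hom ≫ pullback.fst f z.left = (B ◁ z).left := IsPullback.isoPullback_hom_fst _
    have h2 : j.hom ≫ pullback.snd f z.left = (snd B T).left := IsPullback.isoPullback_hom_snd _
    constructor
    · rintro ⟨M, hM, ⟨e⟩⟩
      exact ⟨M, (M2.isInvertible_iff_isFinLocFreeOfRank_one M).2 hM,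
        ⟨(Scheme.Modules.pullbackCongr h1.symm).app N ≪≫ ((Scheme.Modules.pullbackComp _ _).app N).symm ≪≫
          (Scheme.Modules.pullback j.hom).mapIso e ≪≫ (Scheme.Modules.pullbackComp _ _).app M ≪≫
          (Scheme.Modules.pullbackCongr h2).app M⟩⟩
    · rintro ⟨M, hM, ⟨e⟩⟩
      have h1' : j.inv ≫ (B ◁ z).left = pullback.fst f z.left := by rw [← h1, Iso.inv_hom_id_assoc]
      have h2' : j.inv ≫ (snd B T).left = pullback.snd f z.left := by rw [← h2, Iso.inv_hom_id_assoc]
      exact ⟨M, (M2.isInvertible_iff_isFinLocFreeOfRank_one M).1 hM,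
        ⟨(Scheme.Modules.pullbackCongr h1'.symm).app N ≪≫ ((Scheme.Modules.pullbackComp _ _).app N).symm ≪≫
          (Scheme.Modules.pullback j.inv).mapIso e ≪≫ (Scheme.Modules.pullbackComp _ _).app M ≪≫
          (Scheme.Modules.pullbackCongr h2').app M⟩⟩
  have hpull : PicGrp.pullHom (B ◁ z).left (M2.pullMul _) Λ = D L hL (fst B T ≫ i) (snd B T ≫ z) := by
    simp only [Λ, pullHom_D, whiskerLeft_fst_assoc, whiskerLeft_snd]
  have hcrit : Crit i hL z ↔ Good f N z.left := by
    rw [Crit, key, ← hpull, hΛ, PicGrp.pullHom_cls]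
    constructor
    · intro h
      obtain ⟨e⟩ := (PicGrp.cls_eq_one_iff _).1 h
      exact ⟨Coh.structureModule T.left, PicLoc.isInvertible_structureModule _,
        ⟨e ≪≫ (Twist.pullbackUnitIso _).symm⟩⟩
    · rintro ⟨M, hM, ⟨e⟩⟩
      have h := congrArg (PicGrp.pullHom (lift (1 : T ⟶ B) (𝟙 T)).left (M2.pullMul _)) hpull
      have hR : PicGrp.pullHom (lift (1 : T ⟶ B) (𝟙 T)).left (M2.pullMul _)
          (D L hL (fst B T ≫ i) (snd B T ≫ z)) = 1 := by
        rw [pullHom_D, lift_fst_assoc, lift_snd_assoc, Category.id_comp, MonObj.one_comp, D_one_left]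
      have he : PicGrp.cls ((Scheme.Modules.pullback (B ◁ z).left).obj N) (PicLoc.isInvertible_pullback _ hN) =
          PicGrp.pullHom (snd B T).left (M2.pullMul _) (PicGrp.cls M hM) := by
        rw [PicGrp.pullHom_cls]
        exact (PicGrp.cls_eq_cls_iff _ _).2 ⟨e⟩
      rw [hΛ, PicGrp.pullHom_cls, hR, he] at h
      have hM1 : PicGrp.cls M hM = 1 := by
        rw [← h]
        simp only [PicGrp.pullHom_cls]
        refine ((PicGrp.cls_eq_cls_iff _ _).2 ⟨(Scheme.Modules.pullbackComp _ _).app M ≪≫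
          (Scheme.Modules.pullbackCongr ?_).app M ≪≫ (Scheme.Modules.pullbackId T.left).app M⟩).symm
        rw [← Over.comp_left, lift_snd]
        rfl
      rw [he, hM1, map_one]
  rw [hcrit, ← hI]
  constructor
  · rintro ⟨u', hu'⟩
    refine ⟨Over.homMk u' ?_, Over.OverMorphism.ext hu'⟩
    show u' ≫ I.subschemeι ≫ A.hom = T.hom
    rw [← Category.assoc, hu', Over.w z]
  · rintro ⟨y, hy⟩
    exact ⟨y.left, congrArg CommaMorphism.left hy⟩

variable [GeometricallyIntegral A.hom]

theorem crit_one (T : Over (Spec (CommRingCat.of k))) : Crit i hL (1 : T ⟶ A) := by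
  rw [Crit, MonObj.comp_one, D, _root_.mul_one, P_one, _root_.mul_one, mul_inv_cancel]

theorem crit_mul_iff {T : Over (Spec (CommRingCat.of k))} (x y : T ⟶ A) :
    Crit i hL (x * y) ↔ D L hL (fst B T ≫ i) (snd B T ≫ x) * D L hL (fst B T ≫ i) (snd B T ≫ y) = 1 := by
  rw [Crit, MonObj.comp_mul, D_mul_right finH1]

theorem crit_inv_iff {T : Over (Spec (CommRingCat.of k))} (x : T ⟶ A) : Crit i hL x⁻¹ ↔ Crit i hL x := by
  have h := (crit_mul_iff i hL x x⁻¹).1 (by rw [mul_inv_cancel]; exact crit_one i hL T)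
  constructor
  · intro hx
    rwa [show D L hL (fst B T ≫ i) (snd B T ≫ x⁻¹) = 1 from hx, _root_.mul_one] at h
  · intro hx
    rwa [show D L hL (fst B T ≫ i) (snd B T ≫ x) = 1 from hx, _root_.one_mul] at h

/-- The locus is a subgroup. -/
theorem exists_subgroup :
    ∃ (G : Over (Spec (CommRingCat.of k))) (_ : GrpObj G) (g₀ : G ⟶ A), IsMonHom g₀ ∧ IsClosedImmersion g₀.left ∧
      ∀ (T : Over (Spec (CommRingCat.of k))) (z : T ⟶ A), Crit i hL z ↔ ∃ y : T ⟶ G, y ≫ g₀ = z := by
  obtain ⟨G, g₀, hc, hG⟩ := exists_locus i hL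
  haveI := hc
  haveI : Mono g₀ := Over.mono_of_mono_left g₀
  obtain ⟨e, he⟩ := (hG _ η[A]).1 (by rw [MonObj.one_eq_one]; exact crit_one i hL _)
  obtain ⟨m, hm⟩ := (hG _ ((g₀ ⊗ₘ g₀) ≫ μ[A])).1 (by
    rw [← lift_fst_comp_snd_comp, ← Hom.mul_def]
    refine (crit_mul_iff i hL _ _).2 ?_
    have h1 : Crit i hL (fst G G ≫ g₀) := (hG _ _).2 ⟨fst G G, rfl⟩
    have h2 : Crit i hL (snd G G ≫ g₀) := (hG _ _).2 ⟨snd G G, rfl⟩
    rw [Crit] at h1 h2
    rw [h1, h2, _root_.one_mul])
  obtain ⟨v, hv⟩ := (hG _ (g₀ ≫ ι[A])).1 (by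
    rw [← Hom.inv_def, crit_inv_iff]
    exact (hG _ _).2 ⟨𝟙 G, Category.id_comp _⟩)
  letI : GrpObj G := AbRigid.grpObjOfMono g₀ e he m hm v hv
  exact ⟨G, inferInstance, g₀, ⟨he, hm⟩, hc, hG⟩

end Groth.Agent.AVQuotH1
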