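import Mathlib.FieldTheory.SeparableClosure
import Mathlib.FieldTheory.IsAlgClosed.AlgebraicClosure
import Mathlib.FieldTheory.PrimitiveElement
import Mathlib.FieldTheory.Normal.Basic
import Mathlib.RingTheory.Nilpotent.GeometricallyReduced
import Mathlib.RingTheory.Unramified.Field
import Mathlib.RingTheory.Jacobson.Ring

/-!
# Separable extensions stay connected over a primary extension
-/

universe u

set_option autoImplicit false

open Polynomial TensorProduct

namespace Groth.Agent.AVQuotH1

theorem map_minpoly_eq (k K Kb : Type u) [Field k] [Field K] [Field Kb] [Algebra k K] [Algebra k Kb] [Algebra K Kb]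
    [IsScalarTower k K Kb] [IsAlgClosed Kb]
    (hprim : ∀ x : K, IsSeparable k x → x ∈ (algebraMap k K).range) (x : Kb) (hx : IsSeparable k x) :
    (minpoly k x).map (algebraMap k K) = minpoly K x := by
  classical
  have hxk : IsIntegral k x := hx.isIntegral
  have hxK : IsIntegral K x := hxk.tower_top
  set m := minpoly K x with hm
  have hdvd : m ∣ (minpoly k x).map (algebraMap k K) :=
    minpoly.dvd K x (by rw [aeval_map_algebraMap, minpoly.aeval])
  let S := separableClosure k Kb
  have hroot : ∀ r ∈ (m.map (algebraMap K Kb)).roots, r ∈ S := fun r hr => by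
    rw [mem_separableClosure_iff]
    refine hx.of_dvd (minpoly.dvd k r ?_)
    rw [mem_roots (Polynomial.map_ne_zero (minpoly.ne_zero hxK)), IsRoot, eval_map_algebraMap] at hr
    obtain ⟨c, hc⟩ := hdvd
    rw [← aeval_map_algebraMap K, hc, map_mul, hr, zero_mul]
  have hlifts : m.map (algebraMap K Kb) ∈ Polynomial.lifts (algebraMap S Kb) := by
    rw [(IsAlgClosed.splits (m.map (algebraMap K Kb))).eq_prod_roots_of_monic ((minpoly.monic hxK).map _)]
    refine Subsemiring.multiset_prod_mem _ _ fun q hq => ?_
    obtain ⟨r, hr, rfl⟩ := Multiset.mem_map.1 hq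
    exact ⟨X - C ⟨r, hroot r hr⟩, by simp⟩
  have hcoeff : ∀ n, m.coeff n ∈ (algebraMap k K).range := fun n => by
    obtain ⟨s, hs⟩ := (Polynomial.lifts_iff_coeff_lifts _).1 hlifts n
    rw [coeff_map] at hs
    refine hprim _ ?_
    have h : IsSeparable k (algebraMap K Kb (m.coeff n)) := by
      rw [← hs, ← mem_separableClosure_iff]
      exact s.2
    show (minpoly k (m.coeff n)).Separable
    rw [← minpoly.algebraMap_eq (algebraMap K Kb).injective (m.coeff n)]
    exact h
  obtain ⟨g, hg⟩ : m ∈ Polynomial.lifts (algebraMap k K) :=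
    (Polynomial.lifts_iff_coeff_lifts _).2 fun n => hcoeff n
  have hgm : g.Monic := monic_of_injective (algebraMap k K).injective (by rw [← coe_mapRingHom, hg]; exact minpoly.monic hxK)
  rw [coe_mapRingHom] at hg
  have hg0 : aeval x g = 0 := by rw [← aeval_map_algebraMap K, hg, minpoly.aeval]
  obtain ⟨c, hc⟩ := hdvd
  refine (eq_of_monic_of_associated ((minpoly.monic hxk).map _) (minpoly.monic hxK) (associated_of_dvd_dvd ?_ ⟨c, hc⟩))
  rw [← hg]
  exact Polynomial.map_dvd _ (minpoly.dvd k x hg0)

/-- Over a primary extension a finite separable extension has a single point. -/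
theorem subsingleton_primeSpectrum_tensor (k K L : Type u) [Field k] [Field K] [Field L] [Algebra k K] [Algebra k L]
    [FiniteDimensional k L] [Algebra.IsSeparable k L]
    (hprim : ∀ x : K, IsSeparable k x → x ∈ (algebraMap k K).range) : Subsingleton (PrimeSpectrum (K ⊗[k] L)) := by
  classical
  let Kb := AlgebraicClosure K
  obtain ⟨a, ha⟩ := Field.exists_primitive_element k L
  have hemb : ∀ P : PrimeSpectrum (K ⊗[k] L), ∃ ψ : K ⊗[k] L →ₐ[K] Kb, RingHom.ker ψ = P.asIdeal := fun P => by
    haveI : Module.Finite K (K ⊗[k] L) := inferInstance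
    let Q := (K ⊗[k] L) ⧸ P.asIdeal
    haveI : IsDomain Q := Ideal.Quotient.isDomain P.asIdeal
    haveI : Module.Finite K Q := Module.Finite.of_surjective (Ideal.Quotient.mkₐ K P.asIdeal).toLinearMap
      Ideal.Quotient.mk_surjective
    haveI : Algebra.IsIntegral K Q := Algebra.IsIntegral.of_finite K Q
    letI : Field Q := (isField_of_isIntegral_of_isField' (R := K) (S := Q) (Field.toIsField K)).toField
    let j : Q →ₐ[K] Kb := IsAlgClosed.lift
    refine ⟨j.comp (Ideal.Quotient.mkₐ K P.asIdeal), ?_⟩
    ext z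
    rw [RingHom.mem_ker, AlgHom.comp_apply, map_eq_zero_iff j (RingHom.injective j.toRingHom), Ideal.Quotient.mkₐ_eq_mk,
      Ideal.Quotient.eq_zero_iff_mem]
  refine ⟨fun P Q => PrimeSpectrum.ext ?_⟩
  obtain ⟨ψ, hψ⟩ := hemb P
  obtain ⟨χ, hχ⟩ := hemb Q
  let s₁ : L →ₐ[k] Kb := (ψ.restrictScalars k).comp Algebra.TensorProduct.includeRight
  let s₂ : L →ₐ[k] Kb := (χ.restrictScalars k).comp Algebra.TensorProduct.includeRight
  have hsep : IsSeparable k (s₁ a) := by
    show (minpoly k (s₁ a)).Separable
    rw [minpoly.algHom_eq s₁ (RingHom.injective s₁.toRingHom) a]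
    exact Algebra.IsSeparable.isSeparable k a
  have hmin := map_minpoly_eq k K Kb hprim (s₁ a) hsep
  have hev : aeval (s₂ a) (minpoly K (s₁ a)) = 0 := by
    rw [← hmin, aeval_map_algebraMap, minpoly.algHom_eq s₁ (RingHom.injective s₁.toRingHom) a, aeval_algHom_apply,
      minpoly.aeval, map_zero]
  obtain ⟨τ, hτ⟩ := minpoly.exists_algEquiv_of_root' (Algebra.IsAlgebraic.isAlgebraic (R := K) (s₁ a)) hev
  have hcomp : τ.toAlgHom.comp ψ = χ := by
    refine Algebra.TensorProduct.ext (Subsingleton.elim _ _) ?_
    have : (τ.toAlgHom.restrictScalars k).comp s₁ = s₂ := by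
      have htop : Algebra.adjoin k ({a} : Set L) = ⊤ := by
        rw [← IntermediateField.adjoin_simple_toSubalgebra_of_isAlgebraic (Algebra.IsAlgebraic.isAlgebraic a), ha,
          IntermediateField.top_toSubalgebra]
      refine AlgHom.ext_of_adjoin_eq_top htop ?_
      rintro _ rfl
      exact hτ
    exact this
  rw [← hψ, ← hχ, ← hcomp]
  ext z
  simp

theorem isGeometricallyReduced_of_separable (k L : Type u) [Field k] [Field L] [Algebra k L]
    [FiniteDimensional k L] [Algebra.IsSeparable k L] : Algebra.IsGeometricallyReduced k L := by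
  haveI : Algebra.FormallyUnramified k L := Algebra.FormallyUnramified.of_isSeparable k L
  exact (Algebra.isGeometricallyReduced_field_iff _ _).2 (Algebra.FormallyUnramified.isReduced_of_field (AlgebraicClosure k) (AlgebraicClosure k ⊗[k] L))

end Groth.Agent.AVQuotH1
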