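import Groth.Agent.Lib.AVQuotH1.Locus
import Groth.Agent.Lib.MumVan22.Surj
import Groth.Agent.Lib.CubeField.AmpleExists
import Groth.Agent.Lib.CubeField.MumfordTriv
import Groth.Agent.Lib.KLFin22.Main
import Groth.Agent.Lib.Seesaw13.KL
import Groth.Agent.Lib.RelAmple18.Basic
import Groth.Agent.Lib.DiagGL.Chars
import Groth.Agent.Lib.AbRigid.KernelPair
import Groth.Agent.Lib.AbRigid.Isogeny
import Groth.Agent.Lib.AbRigid.Hom
import Groth.Agent.Lib.Isogeny14.Kernel
import Mathlib.AlgebraicGeometry.Group.Smooth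
import Mathlib.AlgebraicGeometry.Sites.Fpqc
import Mathlib.AlgebraicGeometry.ZariskisMainTheorem

/-!
# Poincaré reducibility: an abelian subvariety is a direct factor up to isogeny
-/

set_option autoImplicit false
set_option linter.style.haveILetI false
set_option backward.isDefEq.respectTransparency false

universe u

open CategoryTheory CategoryTheory.Limits MonoidalCategory CartesianMonoidalCategory AlgebraicGeometry
open scoped MonObj GrpObj

noncomputable section

namespace Groth.Agent.AVQuotH1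

noncomputable local instance instLawReduc (Y : Scheme.{u}) : PicGrp.Law Y := M2.law Y

open CubeField

variable {k : Type u} [Field k] {A B : Over (Spec (CommRingCat.of k))} [GrpObj A] [GrpObj B]
  [IsProper A.hom] [GeometricallyIntegral A.hom] [IsProper B.hom] [GeometricallyIntegral B.hom]
  (i : B ⟶ A) [IsMonHom i] [IsClosedImmersion i.left] {L : A.left.Modules}

omit [GrpObj A] [GrpObj B] [IsProper A.hom] [GeometricallyIntegral A.hom] [IsProper B.hom]
  [GeometricallyIntegral B.hom] [IsMonHom i] [IsClosedImmersion i.left] in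
theorem P_pullback (hL : PicF.IsInvertible L) {V : Over (Spec (CommRingCat.of k))} (f : V ⟶ B) :
    P ((Scheme.Modules.pullback i.left).obj L) (PicLoc.isInvertible_pullback _ hL) f = P L hL (f ≫ i) :=
  (PicGrp.cls_eq_cls_iff _ _).2 ⟨(Scheme.Modules.pullbackComp f.left i.left).app L⟩

/-- Modulo the locus every geometric point of `A` is a point of `B`. -/
theorem exists_decomp (hLa : CohB1.IsAmple L) (Ω : Type u) [Field Ω] [IsAlgClosed Ω]
    (p : Spec (CommRingCat.of Ω) ⟶ Spec (CommRingCat.of k))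
    (za : (Over.map p).obj (𝟙_ (Over (Spec (CommRingCat.of Ω)))) ⟶ A) :
    ∃ b : (Over.map p).obj (𝟙_ (Over (Spec (CommRingCat.of Ω)))) ⟶ B, Crit i hLa.1 (za * (b ≫ i)⁻¹) := by
  let W : Over (Spec (CommRingCat.of k)) := (Over.map p).obj (𝟙_ (Over (Spec (CommRingCat.of Ω))))
  let BK : Over (Spec (CommRingCat.of Ω)) := Red.bc p B
  haveI : IsProper BK.hom := MorphismProperty.pullback_snd _ _ ‹IsProper B.hom›
  haveI : GeometricallyIntegral BK.hom := MorphismProperty.pullback_snd _ _ ‹GeometricallyIntegral B.hom›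
  haveI : IsAffineHom p := inferInstance
  let V : Over (Spec (CommRingCat.of k)) := (Over.map p).obj BK
  let φ₁ : V ⟶ B := DiagGL.fl p B (𝟙 BK)
  let s : V ⟶ W := (Over.map p).map (toUnit BK)
  have hφ₁ : φ₁.left = pullback.fst B.hom p := by
    simp [φ₁, DiagGL.fl, Adjunction.homEquiv_counit]
  haveI : IsAffineHom φ₁.left := by
    rw [hφ₁]; exact MorphismProperty.pullback_fst _ _ ‹IsAffineHom p›
  let hLi : CohB1.IsAmple ((Scheme.Modules.pullback i.left).obj L) := Amp.isAmple_pullback_of_isAffineHom _ hLa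
  let hLK : CohB1.IsAmple ((Scheme.Modules.pullback φ₁.left).obj ((Scheme.Modules.pullback i.left).obj L)) :=
    Amp.isAmple_pullback_of_isAffineHom _ hLi
  have hcls : PicGrp.cls _ hLK.1 = P L hLa.1 (φ₁ ≫ i) := P_pullback i hLa.1 φ₁
  have hpb : ∀ (τ : BK ⟶ BK) {c : PicLoc.PicSet V.left},
      AlgEquiv22.pb τ c = PicGrp.pullHom ((Over.map p).map τ).left (M2.pullMul _) c := fun τ {c} => rfl
  have htriv : ∀ c : PicLoc.PicSet W.left, c = 1 := fun c => AlgEquiv22.point_eq_one (k := Ω) c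
  have hτ : ∀ x : 𝟙_ (Over (Spec (CommRingCat.of Ω))) ⟶ BK,
      (Over.map p).map (𝟙 BK * (toUnit BK ≫ x)) ≫ φ₁ = φ₁ * (s ≫ DiagGL.fl p B x) := fun x => by
    have hnat : ∀ {T T' : Over (Spec (CommRingCat.of Ω))} (g : T ⟶ T') (y : T' ⟶ BK),
        DiagGL.fl p B (g ≫ y) = (Over.map p).map g ≫ DiagGL.fl p B y := fun g y =>
      (Over.mapPullbackAdj p).homEquiv_naturality_left_symm g y
    rw [← hnat, Category.comp_id, DiagGL.fl_mul, hnat]
  have hs : ∀ x : 𝟙_ (Over (Spec (CommRingCat.of Ω))) ⟶ BK,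
      (Over.map p).map (𝟙 BK * (toUnit BK ≫ x)) ≫ s = s := fun x => by
    show (Over.map p).map _ ≫ (Over.map p).map _ = (Over.map p).map _
    rw [← Functor.map_comp, toUnit_unique ((𝟙 BK * (toUnit BK ≫ x)) ≫ toUnit BK) (toUnit BK)]
  have hDs : ∀ u v : W ⟶ A, D L hLa.1 (s ≫ u) (s ≫ v) = 1 := fun u v => by
    rw [← pullHom_D, htriv (D L hLa.1 u v), map_one]
  have hPs : ∀ u : W ⟶ A, P L hLa.1 (s ≫ u) = 1 := fun u => by
    rw [← pullHom_P, htriv (P L hLa.1 u), map_one]
  haveI := isCommMonObj_of_isProper_of_geometricallyIntegral A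
  have hsymm : ∀ {Z : Over (Spec (CommRingCat.of k))} (a b : Z ⟶ A), D L hLa.1 a b = D L hLa.1 b a :=
    fun {Z} a b => by
      letI : CommGroup (Z ⟶ A) := Hom.commGroup
      rw [D, D, _root_.mul_comm a b, _root_.mul_comm (P L hLa.1 a)]
  obtain ⟨M, hM, hc⟩ := PicGrp.exists_eq_cls (D L hLa.1 (φ₁ ≫ i) (s ≫ za))
  have hInv : AlgEquiv22.Inv (A := BK) (PicGrp.cls M hM) := fun x => by
    rw [← hc, hpb, pullHom_D, reassoc_of% (hs x), reassoc_of% (hτ x), MonObj.mul_comp, Category.assoc, hsymm,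
      D_mul_right finH1, hDs, _root_.mul_one, hsymm]
  obtain ⟨x, hx⟩ := MumVan22.exists_translate (A := BK) hLK.1 hM hInv (AlgEquiv22.finite_fixing (A := BK) hLK)
  refine ⟨DiagGL.fl p B x, ?_⟩
  rw [hcls, hpb, pullHom_P, reassoc_of% (hτ x), MonObj.mul_comp, Category.assoc] at hx
  have hD : D L hLa.1 (φ₁ ≫ i) (s ≫ DiagGL.fl p B x ≫ i) = D L hLa.1 (φ₁ ≫ i) (s ≫ za) := by
    rw [hc, ← hx, D, hPs, _root_.mul_one]
  have hV : D L hLa.1 (φ₁ ≫ i) (s ≫ (za * (DiagGL.fl p B x ≫ i)⁻¹)) = 1 := by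
    have h0 := D_mul_right (L := L) (hL := hLa.1) finH1 (φ₁ ≫ i) (s ≫ (za * (DiagGL.fl p B x ≫ i)⁻¹))
      (s ≫ DiagGL.fl p B x ≫ i)
    rw [hD, ← MonObj.comp_mul, inv_mul_cancel_right] at h0
    exact mul_eq_right.1 h0.symm
  let g : B ⊗ W ⟶ V := Over.homMk (pullback.lift (fst B W).left (snd B W).left (by
      show pullback.fst B.hom W.hom ≫ B.hom = pullback.snd B.hom W.hom ≫ p
      rw [pullback.condition]
      congr 1)) (by
    show pullback.lift _ _ _ ≫ pullback.snd B.hom p ≫ p = (B ⊗ W).hom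
    rw [pullback.lift_snd_assoc, ← Over.w (snd B W)]
    congr 1)
  have hg1 : g ≫ φ₁ = fst B W := by
    apply Over.OverMorphism.ext
    rw [Over.comp_left, hφ₁]
    exact pullback.lift_fst _ _ _
  have hg2 : g ≫ s = snd B W := by
    apply Over.OverMorphism.ext
    exact pullback.lift_snd _ _ _
  have h := congrArg (PicGrp.pullHom g.left (M2.pullMul _)) hV
  rw [pullHom_D, map_one, reassoc_of% hg1, reassoc_of% hg2] at h
  exact h

theorem isClosedImmersion_unit (G : Over (Spec (CommRingCat.of k))) [GrpObj G] [IsSeparated G.hom] :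
    IsClosedImmersion η[G].left := by
  haveI : IsClosedImmersion (η[G].left ≫ G.hom) := by
    rw [Over.w]; exact inferInstanceAs (IsClosedImmersion (𝟙 _))
  exact IsClosedImmersion.of_comp _ G.hom

/-- Poincaré reducibility. -/
theorem exists_retraction :
    ∃ (n : ℕ) (ψ : A ⟶ B), 0 < n ∧ IsMonHom ψ ∧ i ≫ ψ = 𝟙 B ^ n := by
  haveI := isCommMonObj_of_isProper_of_geometricallyIntegral A
  haveI := isCommMonObj_of_isProper_of_geometricallyIntegral B
  obtain ⟨L, hLa⟩ := exists_isAmple (A := A)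
  obtain ⟨G, _, g₀, _, _, hG⟩ := exists_subgroup i hLa.1
  haveI : Mono g₀ := Over.mono_of_mono_left g₀
  haveI : Mono i := Over.mono_of_mono_left i
  haveI : IsProper G.hom := by rw [← Over.w g₀]; infer_instance
  haveI : IsCommMonObj G := by
    constructor
    rw [← cancel_mono g₀, Category.assoc, IsMonHom.mul_hom, ← BraidedCategory.braiding_naturality_assoc,
      IsCommMonObj.mul_comm]
  let m₀ : G ⊗ B ⟶ A := (g₀ ⊗ₘ i) ≫ μ[A]
  haveI : IsMonHom m₀ := inferInstanceAs (IsMonHom ((g₀ ⊗ₘ i) ≫ μ[A]))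
  have hm₀ : m₀ = (fst G B ≫ g₀) * (snd G B ≫ i) := by
    rw [Hom.mul_def, lift_fst_comp_snd_comp]
  haveI : IsProper (G ⊗ B).hom := by
    show IsProper (pullback.fst G.hom B.hom ≫ G.hom)
    infer_instance
  haveI : IsProper m₀.left := by
    haveI : IsProper (m₀.left ≫ A.hom) := by rw [Over.w]; infer_instance
    exact .of_comp _ A.hom
  haveI : AlgebraicGeometry.IsIntegral A.left := GeometricallyIntegral.isIntegral_of_subsingleton A.hom
  haveI : Surjective m₀.left := ⟨fun a => by
    let Ω := AlgebraicClosure (A.left.residueField a)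
    let q : Spec (CommRingCat.of Ω) ⟶ A.left :=
      Spec.map (CommRingCat.ofHom (algebraMap (A.left.residueField a) Ω)) ≫ A.left.fromSpecResidueField a
    let za : (Over.map (q ≫ A.hom)).obj (𝟙_ (Over (Spec (CommRingCat.of Ω)))) ⟶ A := Over.homMk q (by
      exact (Category.id_comp _).symm)
    obtain ⟨b, hb⟩ := exists_decomp i hLa Ω (q ≫ A.hom) za
    obtain ⟨g, hg⟩ := (hG _ _).1 hb
    have h : lift g b ≫ m₀ = za := by
      rw [hm₀, MonObj.comp_mul, lift_fst_assoc, lift_snd_assoc, hg, inv_mul_cancel_right]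
    refine ⟨(lift g b).left (IsLocalRing.closedPoint Ω), ?_⟩
    rw [← Scheme.Hom.comp_apply, ← Over.comp_left, h]
    show (Spec.map (CommRingCat.ofHom (algebraMap (A.left.residueField a) Ω)) ≫ A.left.fromSpecResidueField a)
      (IsLocalRing.closedPoint Ω) = a
    rw [Scheme.Hom.comp_apply]
    exact A.left.fromSpecResidueField_apply a _⟩
  haveI : Flat m₀.left := AbRigid.flat_of_surjective (G ⊗ B) A m₀
  haveI : QuasiCompact m₀.left := inferInstance
  letI := Isogeny14.kerGrp m₀
  haveI := Isogeny14.isMonHom_kerIncl m₀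
  haveI := Isogeny14.mono_kerIncl m₀
  haveI := isClosedImmersion_unit A
  haveI : IsClosedImmersion (Isogeny14.kerIncl m₀).left :=
    inferInstanceAs (IsClosedImmersion (pullback.fst m₀.left η[A].left))
  haveI : IsFinite (Isogeny14.kerOver m₀).hom := by
    let N := Isogeny14.kerOver m₀
    let ν : N ⟶ B := Isogeny14.kerIncl m₀ ≫ snd G B
    have hν : Isogeny14.kerIncl m₀ ≫ fst G B ≫ g₀ = (ν ≫ i)⁻¹ := by
      have h : Isogeny14.kerIncl m₀ ≫ ((fst G B ≫ g₀) * (snd G B ≫ i)) = 1 := by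
        rw [← hm₀]; exact Isogeny14.kerIncl_comp m₀
      rw [MonObj.comp_mul] at h
      exact (eq_inv_of_mul_eq_one_left h).trans (by rw [Category.assoc])
    have hcrit : Crit i hLa.1 (ν ≫ i) := by
      rw [← crit_inv_iff, ← hν]
      exact (hG _ _).2 ⟨Isogeny14.kerIncl m₀ ≫ fst G B, Category.assoc _ _ _⟩
    obtain ⟨K, iK, hK⟩ := Seesaw13.exists_isKL (A := B) (PicLoc.isInvertible_pullback i.left hLa.1)
    obtain ⟨y, hy⟩ := (hK.univ N ν).1 ((isMumfordTriv_iff (PicLoc.isInvertible_pullback i.left hLa.1) ν).2 (by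
      simp only [P_pullback i hLa.1, MonObj.mul_comp, Category.assoc]
      exact mul_inv_eq_one.1 hcrit))
    haveI := hK.closed
    haveI : IsFinite K.hom := by
      haveI : GeometricallyReduced B.hom := inferInstance
      haveI := CubeField.geometricallyConnected_of_irreducible B.hom
      haveI : Smooth B.hom := @smooth_of_grpObj k _ _ B.hom _ (show GrpObj (Over.mk B.hom) from ‹GrpObj B›) _
      exact KLFin22.isFinite_KL _
        ((RA.isRelAmple_iff_isAmple B.hom).2 (Amp.isAmple_pullback_of_isAffineHom _ hLa)) K iK hK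
    haveI : Mono ν := ⟨fun {T} a b hab => by
      rw [← cancel_mono (Isogeny14.kerIncl m₀)]
      refine CartesianMonoidalCategory.hom_ext _ _ ?_ (by simpa [ν] using hab)
      rw [← cancel_mono g₀]
      simp only [Category.assoc, hν, GrpObj.comp_inv, reassoc_of% hab]⟩
    haveI : IsClosedImmersion ν.left := by
      haveI : IsProper N.hom := by rw [← Over.w (Isogeny14.kerIncl m₀)]; infer_instance
      haveI : IsProper ν.left := by
        haveI : IsProper (ν.left ≫ B.hom) := by rw [Over.w]; infer_instance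
        exact .of_comp _ B.hom
      haveI : Mono ν.left := inferInstanceAs (Mono ((Over.forget _).map ν))
      exact (IsClosedImmersion.iff_isProper_and_mono ν.left).2 ⟨inferInstance, inferInstance⟩
    haveI : IsClosedImmersion (y.left ≫ iK.left) := by rw [← Over.comp_left, hy]; infer_instance
    haveI : IsClosedImmersion y.left := IsClosedImmersion.of_comp y.left iK.left
    rw [← Over.w y]
    infer_instance
  haveI : LocallyQuasiFinite (Isogeny14.kerOver m₀).hom := inferInstance
  haveI : LocallyQuasiFinite m₀.left :=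
    AbRigid.of_kernel m₀ (Isogeny14.kerIncl m₀)
      (IsPullback.of_map (Over.forget _) (by rw [Isogeny14.kerIncl_comp]; exact Hom.one_def)
        (IsPullback.of_hasPullback m₀.left η[A].left))
      @LocallyQuasiFinite inferInstance
  haveI : IsFinite m₀.left := AbRigid.isFinite_of_flat_of_locallyQuasiFinite (G ⊗ B) A m₀
  haveI : IsLocallyNoetherian A.left := LocallyOfFiniteType.isLocallyNoetherian A.hom
  let n := Scheme.Hom.finrank m₀.left (η[A].left (IsLocalRing.closedPoint k))
  have hn : 0 < n := by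
    obtain ⟨z, hz⟩ := m₀.left.surjective (η[A].left (IsLocalRing.closedPoint k))
    have := Scheme.Hom.one_le_finrank_map m₀.left z
    rw [hz] at this
    exact this
  have hdeg : ∀ s : Spec (CommRingCat.of k), Scheme.Hom.finrank m₀.left (η[A].left s) = n := fun s => by
    rw [Subsingleton.elim (α := PrimeSpectrum k) s (IsLocalRing.closedPoint k)]
  have hker : ∀ {T : Scheme.{u}} (a b : T ⟶ (G ⊗ B).left), a ≫ m₀.left = b ≫ m₀.left →
      a ≫ (snd G B ^ n).left = b ≫ (snd G B ^ n).left := fun {T} a b hab => by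
    let T' : Over (Spec (CommRingCat.of k)) := Over.mk (a ≫ (G ⊗ B).hom)
    let a' : T' ⟶ G ⊗ B := Over.homMk a rfl
    let b' : T' ⟶ G ⊗ B := Over.homMk b (by
      show b ≫ (G ⊗ B).hom = a ≫ (G ⊗ B).hom
      rw [← Over.w m₀, ← Category.assoc, ← hab, Category.assoc])
    have h2 := Isogeny14.pow_eq_of_comp_eq m₀ n hdeg a' b' (Over.OverMorphism.ext hab)
    have h3 : a' ≫ snd G B ^ n = b' ≫ snd G B ^ n := by
      rw [MonObj.comp_pow, MonObj.comp_pow, ← Isogeny14.hom_pow_comp, ← Isogeny14.hom_pow_comp, h2]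
    exact congrArg CommaMorphism.left h3
  have hd := EffectiveEpi.fac m₀.left (snd G B ^ n).left hker
  let ψ : A ⟶ B := Over.homMk (EffectiveEpi.desc m₀.left (snd G B ^ n).left hker) (by
    rw [← cancel_epi m₀.left, reassoc_of% hd, Over.w, Over.w])
  have hψ : m₀ ≫ ψ = snd G B ^ n := Over.OverMorphism.ext hd
  haveI : IsMonHom ψ := AbRigid.isMonHom_of_one A B ψ (by
    rw [← IsMonHom.one_hom (f := m₀), Category.assoc, hψ, MonObj.comp_pow, IsMonHom.one_hom, MonObj.one_eq_one,
      one_pow])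
  refine ⟨n, ψ, hn, inferInstance, ?_⟩
  have hi : lift (1 : B ⟶ G) (𝟙 B) ≫ m₀ = i := by
    rw [hm₀, MonObj.comp_mul, lift_fst_assoc, lift_snd_assoc, MonObj.one_comp, _root_.one_mul, Category.id_comp]
  rw [← hi, Category.assoc, hψ, MonObj.comp_pow, lift_snd]

end Groth.Agent.AVQuotH1
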